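import Groth.Agent.RedSub.H647.QCov
import Groth.Agent.Sga3B.RepDescent7
import Groth.Agent.Fga.ClosedSub

/-!
# The sheaf of closed subschemes of `G_T`

`closedF G : (Over S)ᵒᵖ ⥤ Type u`, `T ↦` ideal sheaves on `G ×_S T`, with pullback of ideal sheaves; it is a sheaf
for the covers of `QCov` (`isQSheaf_closedF`), in particular for étale covers and for single fpqc morphisms.
`IsQSheaf F` is the sheaf condition, `IsQSheaf.isEtSheaf`, `IsQSheaf.existsUnique_single` its consequences.
-/

set_option autoImplicit false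
universe u

open CategoryTheory CategoryTheory.Limits AlgebraicGeometry Opposite MonoidalCategory CartesianMonoidalCategory

namespace Groth.Agent.RedSub.H647.ClosedF

open Groth.Agent.RedSub.H647.QCov Groth.Agent.Sga3B

variable {S : Scheme.{u}}

/-- the sheaf condition for the covers of `QCov` -/
def IsQSheaf (F : (Over S)ᵒᵖ ⥤ Type u) : Prop :=
  ∀ {T : Over S} {ι : Type u} (T' : ι → Over S) (f : ∀ i, T' i ⟶ T), IsQCov (fun i => (f i).left) →
    ∀ x : ∀ i, F.obj (op (T' i)),
      (∀ (i j : ι) (R : Over S) (a : R ⟶ T' i) (b : R ⟶ T' j), a ≫ f i = b ≫ f j →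
        F.map a.op (x i) = F.map b.op (x j)) →
      ∃! y : F.obj (op T), ∀ i, F.map (f i).op y = x i

theorem IsQSheaf.isEtSheaf {F : (Over S)ᵒᵖ ⥤ Type u} (hF : IsQSheaf F) : RepDescent.IsEtSheaf F := by
  intro T ι T' f h1 h2 x hx
  exact hF T' f (IsQCov.of_etale h1 h2) x hx

/-- a single flat surjective quasi-compact morphism -/
theorem IsQSheaf.existsUnique_single {F : (Over S)ᵒᵖ ⥤ Type u} (hF : IsQSheaf F) {T T' : Over S} (f : T' ⟶ T)
    [Flat f.left] [Surjective f.left] [QuasiCompact f.left] (x : F.obj (op T'))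
    (hx : ∀ (R : Over S) (a b : R ⟶ T'), a ≫ f = b ≫ f → F.map a.op x = F.map b.op x) :
    ∃! y : F.obj (op T), F.map f.op y = x := by
  obtain ⟨y, hy, hy'⟩ := hF (T := T) (ι := PUnit.{u+1}) (fun _ => T') (fun _ => f)
    (IsQCov.single f.left) (fun _ => x) (fun _ _ R a b h => hx R a b h)
  exact ⟨y, hy PUnit.unit, fun z hz => hy' z fun _ => hz⟩

/-- sections of a sheaf are determined by their restrictions to a cover -/
theorem IsQSheaf.ext {F : (Over S)ᵒᵖ ⥤ Type u} (hF : IsQSheaf F) {T : Over S} {ι : Type u} {T' : ι → Over S}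
    (f : ∀ i, T' i ⟶ T) (hf : IsQCov (fun i => (f i).left)) {y z : F.obj (op T)}
    (h : ∀ i, F.map (f i).op y = F.map (f i).op z) : y = z := by
  obtain ⟨w, hw, hw'⟩ := hF T' f hf (fun i => F.map (f i).op y) (fun i j R a b hab => by
    rw [← Functor.map_comp_apply, ← Functor.map_comp_apply, ← op_comp, ← op_comp, hab])
  rw [hw' y (fun i => rfl), hw' z fun i => (h i).symm]

/-- the pulled back family `G ×_S T' i ⟶ G ×_S T` -/
lemma isQCov_whisker (G : Over S) {T : Over S} {ι : Type u} {T' : ι → Over S} (f : ∀ i, T' i ⟶ T)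
    (hf : IsQCov (fun i => (f i).left)) : IsQCov (fun i => (G ◁ f i).left) :=
  IsQCov.of_isPullback (fun i => (RepDescent.isPullback_whisker G (f i)).flip) hf

/-- A morphism `R ⟶ G ×_S T` factors over `G ×_S R`. -/
lemma factor_whisker (G : Over S) {T R : Over S} (a : R ⟶ G ⊗ T) :
    a = lift (a ≫ fst G T) (𝟙 R) ≫ (G ◁ (a ≫ snd G T)) := by
  rw [lift_whiskerLeft, Category.id_comp]
  apply CartesianMonoidalCategory.hom_ext
  · rw [lift_fst]
  · rw [lift_snd]

/-- The functor of closed subschemes of `G ×_S T`. -/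
noncomputable def closedF (G : Over S) : (Over S)ᵒᵖ ⥤ Type u where
  obj T := ((G ⊗ T.unop : Over S).left).IdealSheafData
  map g := ↾(fun I => Scheme.IdealSheafData.comap I (G ◁ g.unop).left)
  map_id T := by
    refine ConcreteCategory.hom_ext _ _ fun I => ?_
    change Scheme.IdealSheafData.comap I (G ◁ (𝟙 T.unop)).left = I
    rw [MonoidalCategory.whiskerLeft_id, Over.id_left, Scheme.IdealSheafData.comap_id]
  map_comp a b := by
    refine ConcreteCategory.hom_ext _ _ fun I => ?_
    change Scheme.IdealSheafData.comap I (G ◁ (b.unop ≫ a.unop)).left =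
      (Scheme.IdealSheafData.comap I (G ◁ a.unop).left).comap (G ◁ b.unop).left
    rw [MonoidalCategory.whiskerLeft_comp, Over.comp_left, Scheme.IdealSheafData.comap_comp]

/-- the section of `closedF G` given by an ideal sheaf -/
noncomputable def mkI (G : Over S) (T : Over S) (I : ((G ⊗ T : Over S).left).IdealSheafData) :
    (closedF G).obj (op T) := I

/-- the ideal sheaf of a section of `closedF G` -/
noncomputable def toI {G : Over S} {T : Over S} (x : (closedF G).obj (op T)) :
    ((G ⊗ T : Over S).left).IdealSheafData := x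

@[simp] lemma toI_mkI {G : Over S} {T : Over S} (I : ((G ⊗ T : Over S).left).IdealSheafData) :
    toI (mkI G T I) = I := rfl

@[simp] lemma mkI_toI {G : Over S} {T : Over S} (x : (closedF G).obj (op T)) : mkI G T (toI x) = x := rfl

lemma toI_injective {G : Over S} {T : Over S} : Function.Injective (toI (G := G) (T := T)) := fun _ _ h => h

@[simp] lemma toI_map {G : Over S} {T T' : Over S} (g : T' ⟶ T) (x : (closedF G).obj (op T)) :
    toI ((closedF G).map g.op x) = (toI x).comap (G ◁ g).left := rfl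

/-- **Closed subschemes form a sheaf.** -/
theorem isQSheaf_closedF (G : Over S) : IsQSheaf (closedF G) := by
  intro T ι T' f hf x hx
  have h1 := (isQCov_whisker G f hf).existsUnique_ideal (fun i => toI (x i)) (fun i j R a b hab => by
    let R' : Over S := Over.mk (a ≫ (G ⊗ T' i).hom)
    have hb : b ≫ (G ⊗ T' j).hom = a ≫ (G ⊗ T' i).hom := by
      rw [← Over.w (G ◁ f i), ← Over.w (G ◁ f j), ← Category.assoc, ← Category.assoc]
      exact congrArg (· ≫ (G ⊗ T).hom) hab.symm
    let a' : R' ⟶ G ⊗ T' i := Over.homMk a rfl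
    let b' : R' ⟶ G ⊗ T' j := Over.homMk b hb
    have hab' : a' ≫ (G ◁ f i) = b' ≫ (G ◁ f j) := Over.OverMorphism.ext hab
    have h2 : (a' ≫ snd _ _) ≫ f i = (b' ≫ snd _ _) ≫ f j := by
      have h3 := congrArg (· ≫ snd G T) hab'
      simp only [Category.assoc, whiskerLeft_snd] at h3
      rw [Category.assoc, Category.assoc, h3]
    have h4 : a' ≫ fst _ _ = b' ≫ fst _ _ := by
      have h3 := congrArg (· ≫ fst G T) hab'
      simpa only [Category.assoc, whiskerLeft_fst] using h3
    have h5 := congrArg toI (hx i j R' (a' ≫ snd _ _) (b' ≫ snd _ _) h2)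
    rw [toI_map, toI_map] at h5
    have ea : a = (lift (a' ≫ fst G (T' i)) (𝟙 R')).left ≫ (G ◁ (a' ≫ snd G (T' i))).left := by
      rw [← Over.comp_left, ← factor_whisker]
      rfl
    have eb : b = (lift (b' ≫ fst G (T' j)) (𝟙 R')).left ≫ (G ◁ (b' ≫ snd G (T' j))).left := by
      rw [← Over.comp_left, ← factor_whisker]
      rfl
    rw [ea, eb, Scheme.IdealSheafData.comap_comp, Scheme.IdealSheafData.comap_comp, h5, h4])
  obtain ⟨J, hJ, hJ'⟩ := h1
  exact ⟨mkI G T J, fun i => toI_injective (hJ i), fun z hz => toI_injective (hJ' (toI z) fun i =>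
    congrArg toI (hz i))⟩

section points

variable {G : Over S} {T : Over S}

/-- The point `(g, a)` of `G ×_S T` lies in the closed subscheme `I`. -/
def Mem (I : ((G ⊗ T : Over S).left).IdealSheafData) {X : Over S} (g : X ⟶ G) (a : X ⟶ T) : Prop :=
  I.comap (lift g a).left = ⊥

lemma mem_iff_ker {Z : Scheme.{u}} (i : Z ⟶ (G ⊗ T : Over S).left) [IsClosedImmersion i] {X : Over S}
    (g : X ⟶ G) (a : X ⟶ T) : Mem (T := T) i.ker g a ↔ ∃ z : X.left ⟶ Z, z ≫ i = (lift g a).left :=
  Fga.ClosedSub.comap_ker_eq_bot_iff i _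

lemma Mem.comp {I : ((G ⊗ T : Over S).left).IdealSheafData} {X X' : Over S} {g : X ⟶ G} {a : X ⟶ T}
    (h : Mem I g a) (x : X' ⟶ X) : Mem I (x ≫ g) (x ≫ a) := by
  rw [Mem, ← comp_lift, Over.comp_left, Scheme.IdealSheafData.comap_comp, h,
    Scheme.IdealSheafData.comap_bot]

lemma mem_map_iff {T' : Over S} (f : T' ⟶ T) (I : ((G ⊗ T : Over S).left).IdealSheafData) {X : Over S}
    (g : X ⟶ G) (a : X ⟶ T') : Mem (I.comap (G ◁ f).left) g a ↔ Mem I g (a ≫ f) := by
  rw [Mem, Mem, ← Scheme.IdealSheafData.comap_comp, ← Over.comp_left, lift_whiskerLeft]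

/-- membership can be checked on a cover -/
lemma Mem.of_cover {I : ((G ⊗ T : Over S).left).IdealSheafData} {X : Over S} {g : X ⟶ G} {a : X ⟶ T}
    {ι : Type u} {X' : ι → Over S} (f : ∀ i, X' i ⟶ X) (hf : IsQCov (fun i => (f i).left))
    (h : ∀ i, Mem I (f i ≫ g) (f i ≫ a)) : Mem I g a := by
  refine hf.ideal_ext fun i => ?_
  have := h i
  rw [Mem, ← comp_lift, Over.comp_left, Scheme.IdealSheafData.comap_comp] at this
  rw [this, Scheme.IdealSheafData.comap_bot]

/-- Closed subschemes are determined by their points. -/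
lemma ideal_le_of_mem {I J : ((G ⊗ T : Over S).left).IdealSheafData}
    (h : ∀ (X : Over S) (g : X ⟶ G) (a : X ⟶ T), Mem J g a → Mem I g a) : I ≤ J := by
  let X : Over S := Over.mk (J.subschemeι ≫ (G ⊗ T).hom)
  let x : X ⟶ G ⊗ T := Over.homMk J.subschemeι rfl
  have hx : x = lift (x ≫ fst G T) (x ≫ snd G T) := by
    rw [← comp_lift, lift_fst_snd, Category.comp_id]
  have h1 : Mem J (x ≫ fst G T) (x ≫ snd G T) := by
    rw [Mem, ← hx]
    change J.comap J.subschemeι = ⊥
    rw [Fga.ClosedSub.comap_eq_bot_iff, Scheme.IdealSheafData.ker_subschemeι]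
  have h2 := h X _ _ h1
  rw [Mem, ← hx] at h2
  change I.comap J.subschemeι = ⊥ at h2
  rwa [Fga.ClosedSub.comap_eq_bot_iff, Scheme.IdealSheafData.ker_subschemeι] at h2

lemma ideal_ext_of_mem {I J : ((G ⊗ T : Over S).left).IdealSheafData}
    (h : ∀ (X : Over S) (g : X ⟶ G) (a : X ⟶ T), Mem I g a ↔ Mem J g a) : I = J :=
  le_antisymm (ideal_le_of_mem fun X g a => (h X g a).2) (ideal_le_of_mem fun X g a => (h X g a).1)

end points

end Groth.Agent.RedSub.H647.ClosedF
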