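import Groth.Agent.Sga1.FreeQuotSch
import Groth.Agent.Sga1.QuotExists
import Groth.Agent.Sga1.QuotAffine
import Groth.Agent.Sga3B.AdFppf

/-!
# Free quotients of affine schemes by finite groups, in terms of points

* `exists_local` : two points of `X` with the same image in a free quotient `X/G` differ locally by an element of
  `G`;
* `exists_freeQuot` : `Q` over `S`, affine, with an action of a finite group `Γ` over `S` free on geometric points:
  the quotient `p : Q ⟶ M` over `S` exists, is finite étale surjective, and `x ≫ p = y ≫ p` iff locally `y = x g`.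
-/

set_option autoImplicit false
universe u

open CategoryTheory CategoryTheory.Limits AlgebraicGeometry

namespace Groth.Agent.RedSub.H647.FreeQ

open Groth.Agent.Sga1 Groth.Agent.Sga3B

section sch

variable {X Y : Scheme.{u}} {G : Type u} [Group G]

/-- Points with the same image in a free quotient differ locally by an element of the group. -/
theorem exists_local [Finite G] {ρ : G →* Aut X} {p : X ⟶ Y} (hp : SGA1.IsQuot ρ p)
    (hfree : FreeQuotSch.IsFree ρ) {T : Scheme.{u}} (x y : T ⟶ X) (h : x ≫ p = y ≫ p) (t : T) :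
    ∃ U : T.Opens, t ∈ U ∧ ∃ g, U.ι ≫ y = U.ι ≫ x ≫ (ρ g).hom := by
  have := hp.affine
  have := FreeQuotSch.etale_of_isFree hp hfree
  have hopen : ∀ g, IsOpenImmersion (FreeQuotSch.graph hp g) := by
    intro g
    have : IsOpenImmersion (FreeQuotSch.graph hp g ≫ pullback.fst p p) := by
      rw [FreeQuotSch.graph_fst]; infer_instance
    exact FreeQuotSch.isOpenImmersion_of_comp _ (pullback.fst p p)
  have := FreeQuotSch.isIso_sigma_graph hp hfree
  let l : T ⟶ pullback p p := pullback.lift x y h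
  obtain ⟨w, hw⟩ := (Sigma.desc (fun g : G => FreeQuotSch.graph hp g) :
    (∐ fun _ : G => X) ⟶ pullback p p).surjective (l t)
  obtain ⟨⟨g, z⟩, rfl⟩ := (sigmaMk (fun _ : G => X)).surjective w
  have hz : FreeQuotSch.graph hp g z = l t := by
    rw [← hw, sigmaMk_mk, ← Scheme.Hom.comp_apply, Sigma.ι_desc]
  refine ⟨l ⁻¹ᵁ (FreeQuotSch.graph hp g).opensRange, ⟨z, hz⟩, g, ?_⟩
  set U := l ⁻¹ᵁ (FreeQuotSch.graph hp g).opensRange
  have hr : Set.range (U.ι ≫ l) ⊆ Set.range (FreeQuotSch.graph hp g) := by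
    rintro _ ⟨a, rfl⟩
    rw [Scheme.Hom.comp_apply]
    exact a.2
  have h1 := IsOpenImmersion.lift_fac (FreeQuotSch.graph hp g) (U.ι ≫ l) hr
  have h2 : IsOpenImmersion.lift (FreeQuotSch.graph hp g) (U.ι ≫ l) hr = U.ι ≫ x := by
    have h3 := congrArg (· ≫ pullback.fst p p) h1
    simp only [Category.assoc] at h3
    rw [FreeQuotSch.graph_fst, Category.comp_id, pullback.lift_fst] at h3
    exact h3
  have h4 := congrArg (· ≫ pullback.snd p p) h1
  simp only [Category.assoc] at h4
  rw [FreeQuotSch.graph_snd, pullback.lift_snd, h2, Category.assoc] at h4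
  exact h4.symm

end sch

section rel

variable {S : Scheme.{u}} (Q : Over S) {Γ : Type u} [Group Γ] [Finite Γ]

/-- **Free quotients** over a base. -/
theorem exists_freeQuot [IsAffine Q.left] [IsAffineHom Q.hom] [Smooth Q.hom] (ρ : Γ →* Aut Q)
    (hfree : ∀ (K : Type u) [Field K] [IsAlgClosed K] (ξ : Spec (CommRingCat.of K) ⟶ Q.left) (g : Γ),
      ξ ≫ (ρ g).hom.left = ξ → g = 1) :
    ∃ (M : Over S) (p : Q ⟶ M), Etale p.left ∧ Surjective p.left ∧ IsFinite p.left ∧ IsAffineHom M.hom ∧
      Smooth M.hom ∧ IsAffine M.left ∧ (∀ g, (ρ g).hom ≫ p = p) ∧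
      ∀ (X : Over S) (x y : X ⟶ Q), x ≫ p = y ≫ p → ∀ t : X.left, ∃ (X' : Over S) (j : X' ⟶ X),
        IsOpenImmersion j.left ∧ t ∈ Set.range j.left ∧ ∃ g, j ≫ y = j ≫ x ≫ (ρ g).hom := by
  let ρ₀ : Γ →* Aut Q.left := ((Over.forget S).mapAut Q).comp ρ
  have hρ₀ : ∀ g, (ρ₀ g).hom = (ρ g).hom.left := fun g => rfl
  have hfree₀ : FreeQuotSch.IsFree ρ₀ := fun K _ _ ξ g h => hfree K ξ g h
  obtain ⟨Y, p, hp⟩ := QuotExists.exists_isQuot ρ₀ fun x => ⟨⊤, isAffineOpen_top _, fun _ => trivial⟩
  have := FreeQuotSch.etale_of_isFree hp hfree₀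
  have := FreeQuotSch.finite_of_isFree hp hfree₀
  have := FreeQuotSch.surjective_of_isQuot hp
  -- the structure morphism
  obtain ⟨s, hs, -⟩ := AdFppf.glueScheme (X := Y) (Y := S) (I := PUnit.{u+1}) (fun _ => Q.left) (fun _ => p)
    (fun _ => inferInstance) (fun _ => inferInstance) (fun y => ⟨⟨⟩, p.surjective y⟩) (fun _ => Q.hom) (by
      intro _ _ W a b hab
      choose U hU g hg using fun w : W => exists_local hp hfree₀ a b hab w
      let 𝒰 : Scheme.OpenCover.{u} W := Scheme.openCoverOfIsOpenCover W U (by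
        rw [TopologicalSpace.IsOpenCover, eq_top_iff]
        intro w _
        exact TopologicalSpace.Opens.mem_iSup.2 ⟨w, hU w⟩)
      refine Scheme.Cover.hom_ext 𝒰 _ _ fun w => ?_
      change (U w).ι ≫ a ≫ Q.hom = (U w).ι ≫ b ≫ Q.hom
      rw [← Category.assoc _ b, hg w, hρ₀, Category.assoc, Category.assoc, Over.w])
  have hsp : p ≫ s = Q.hom := hs ⟨⟩
  let M : Over S := Over.mk s
  let p' : Q ⟶ M := Over.homMk p hsp
  have haff : IsAffineHom s := QuotAffine.isAffineHom_of_isQuot hp hsp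
  have hsm : Smooth (p ≫ s) := by rw [hsp]; infer_instance
  have haffY : IsAffine Y := by
    have h1 := QuotAffine.isAffineHom_of_isQuot hp (q := terminal.from Y) (f := terminal.from Q.left)
      (by ext)
    exact isAffine_of_isAffineHom (terminal.from Y)
  refine ⟨M, p', ‹_›, ‹_›, ‹_›, haff, Groth.Agent.S0115.result p s, haffY, fun g => ?_, ?_⟩
  · apply Over.OverMorphism.ext
    exact hp.inv g
  · intro X x y hxy t
    obtain ⟨U, hU, g, hg⟩ := exists_local hp hfree₀ x.left y.left (congrArg (fun k => k.left) hxy) t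
    refine ⟨Over.mk (U.ι ≫ X.hom), Over.homMk U.ι rfl, inferInstanceAs (IsOpenImmersion U.ι), ⟨⟨t, hU⟩, rfl⟩, g, ?_⟩
    apply Over.OverMorphism.ext
    exact hg

end rel

end Groth.Agent.RedSub.H647.FreeQ
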