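import Groth.Agent.RedSub.H647.WeylLoc
import Groth.Agent.RedSub.H647.FreeQ
import Groth.Agent.Sga3A.Weyl
import Groth.Agent.Sga3B.FpqcLoc
import Groth.Agent.S0412

/-!
# The quotient of a split reductive group by the normaliser of its maximal torus

`D : Red.SplitRed G` over `Spec R`: there is an affine smooth `M` and `q : G ⟶ M` smooth surjective with
`x ≫ q = y ≫ q` iff `x⁻¹ y` normalises the torus, iff locally `y = x n_w t`.
-/

set_option autoImplicit false
universe u

open CategoryTheory MonoidalCategory CartesianMonoidalCategory MonObj GrpObj AlgebraicGeometry Limits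

namespace Groth.Agent.RedSub.H647.NormQuot

open Groth.Agent.Sga3B Groth.Agent.Sga3B.DSPts Groth.Agent.Sga3B.IsomCore Groth.Agent.RedSub.H647.WeylLoc

section general

variable {S : Scheme.{u}} {G : Over S} [GrpObj G] (D : Red.SplitRed G)

/-- The Weyl group of a split reductive group over a nonempty base is finite. -/
theorem finite_weyl [Nonempty S] : Finite D.P.weylGroup := by
  have hred : D.P.IsReduced := SplitReduced415.isReduced D
  obtain ⟨b⟩ := BaseZ.nonempty_base D.P
  refine Finite.of_injective (β := Equiv.Perm D.idx) (MulAction.toPermHom D.P.weylGroup D.idx) ?_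
  rw [injective_iff_map_eq_one]
  intro w hw
  refine Sga3A.Weyl.eq_one_of_preserves (b := b) w fun j hj => ?_
  have h1 : w • j = j := congrArg (fun e : Equiv.Perm D.idx => e j) hw
  rw [h1]
  exact b.isPos_of_mem_support hj

variable {D}

/-- Quotient by a diagonalisable group: the torsor property. -/
theorem isPullback_quot {T Q : Over S} {i : T ⟶ G} [Mono i] {q : G ⟶ Q} (hq : AdQuot.IsQuot i q) :
    IsPullback (fst G T) (fst G T * (snd G T ≫ i)) q q := by
  refine ⟨⟨(hq.agree _ _ _).2 ⟨snd G T, rfl⟩⟩, ⟨PullbackCone.IsLimit.mk _ (fun s => lift s.fst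
    ((hq.agree _ _ _).1 s.condition).choose) (fun s => lift_fst _ _) (fun s => ?_) (fun s m h1 h2 => ?_)⟩⟩
  · rw [MonObj.comp_mul, lift_fst, ← Category.assoc, lift_snd]
    exact ((hq.agree _ _ _).1 s.condition).choose_spec.symm
  · apply CartesianMonoidalCategory.hom_ext
    · rw [h1, lift_fst]
    · rw [lift_snd]
      have h3 := h2.trans ((hq.agree _ _ _).1 s.condition).choose_spec
      rw [MonObj.comp_mul, h1, ← Category.assoc] at h3
      exact (cancel_mono i).1 (mul_left_cancel h3)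

/-- The quotient by a torus is smooth. -/
theorem smooth_quot {T Q : Over S} {i : T ⟶ G} [Mono i] {q : G ⟶ Q} (hq : AdQuot.IsQuot i q) [Smooth T.hom] :
    Smooth q.left := by
  have h1 := (isPullback_quot hq).map (Over.forget S)
  have h2 : Smooth (fst G T).left := inferInstanceAs (Smooth (pullback.fst G.hom T.hom))
  have h3 := hq.flat
  have h4 := hq.surj
  have h5 := hq.qc
  refine MorphismProperty.of_isPullback_of_descendsAlong (P := @Smooth)
    (Q := @Surjective ⊓ @Flat ⊓ @QuasiCompact) h1 ⟨⟨h4, h3⟩, h5⟩ ?_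
  exact h2

/-- Two points acting in the same way on the torus have the same image in `G/T`. -/
theorem mul_eq_mul_of_actsBy {Q : Over S} {q : G ⟶ Q} (hq : AdQuot.IsQuot D.i q) (w : D.P.Aut) {X : Over S}
    (x m m' : X ⟶ G) (h : ActsBy D m w.weightMap.toAddMonoidHom) (h' : ActsBy D m' w.weightMap.toAddMonoidHom) :
    (x * m) ≫ q = (x * m') ≫ q := by
  have e1 : ∀ m, w.weightMap ((w⁻¹).weightMap m) = m := fun m => by
    have h4 : (w * w⁻¹).weightMap m = m := by rw [mul_inv_cancel]; rfl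
    exact h4
  have e2 : ∀ m, (w⁻¹).weightMap (w.weightMap m) = m := fun m => by
    have h4 : (w⁻¹ * w).weightMap m = m := by rw [inv_mul_cancel]; rfl
    exact h4
  obtain ⟨t, ht⟩ := exists_torus (φ' := (w⁻¹).weightMap.toAddMonoidHom) h h' (AddMonoidHom.ext e2)
    (AddMonoidHom.ext e1)
  refine (hq.agree _ _ _).2 ⟨t ≫ D.split.inv.hom.hom, ?_⟩
  rw [ht, dT, Category.assoc, _root_.mul_assoc]

lemma agree_dT {Q : Over S} {q : G ⟶ Q} (hq : AdQuot.IsQuot D.i q) {X : Over S} (x y : X ⟶ G) :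
    x ≫ q = y ≫ q ↔ ∃ t : X ⟶ Red.DS S D.M, y = x * dT D t := by
  rw [hq.agree]
  constructor
  · rintro ⟨t, rfl⟩
    exact ⟨t ≫ D.split.hom.hom.hom, by rw [dT_hom]⟩
  · rintro ⟨t, rfl⟩
    exact ⟨t ≫ D.split.inv.hom.hom, by rw [dT, Category.assoc]⟩

end general

section quot

variable {S : Scheme.{u}} {G : Over S} [GrpObj G] (D : Red.SplitRed G)

/-- representatives of the elements of the Weyl group -/
noncomputable def nw (w : D.P.weylGroup) : 𝟙_ (Over S) ⟶ G := (exists_acts D w.1 w.2).choose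

lemma nw_acts (w : D.P.weylGroup) : Acts D (nw D w) w.1.weightMap.toAddMonoidHom :=
  (exists_acts D w.1 w.2).choose_spec

/-- the point `n_w` with values in `X` -/
noncomputable def nwX (w : D.P.weylGroup) (X : Over S) : X ⟶ G := toUnit X ≫ nw D w

lemma comp_nwX (w : D.P.weylGroup) {X X' : Over S} (f : X' ⟶ X) : f ≫ nwX D w X = nwX D w X' := by
  rw [nwX, ← Category.assoc, toUnit_unique (f ≫ toUnit X) (toUnit X')]
  rfl

lemma nwX_acts (w : D.P.weylGroup) (X : Over S) : ActsBy D (nwX D w X) w.1.weightMap.toAddMonoidHom :=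
  actsBy_of_acts (nw_acts D w) X

variable {Q : Over S} {q : G ⟶ Q} (hq : AdQuot.IsQuot D.i q)

include hq in
lemma epi_q {Z : Over S} {a b : Q ⟶ Z} (h : q ≫ a = q ≫ b) : a = b := by
  have := hq.flat
  have := hq.lfp
  have := hq.surj
  exact AdFppf.ext_fppf a b fun x => ⟨G, q, hq.flat, hq.lfp, by
    obtain ⟨y, hy⟩ := q.left.surjective x
    exact ⟨y, hy⟩, h⟩

include hq in
/-- the action of the Weyl group on `G/T` -/
theorem exists_r (w : D.P.weylGroup) : ∃ r : Q ⟶ Q, ∀ (X : Over S) (x : X ⟶ G),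
    x ≫ q ≫ r = (x * nwX D w X) ≫ q := by
  have := hq.flat
  have := hq.lfp
  have := hq.surj
  obtain ⟨r, hr⟩ := AdFppf.desc q ((𝟙 G * nwX D w G) ≫ q) (by
    intro W a b hab
    obtain ⟨t, rfl⟩ := (agree_dT hq a b).1 hab
    rw [← Category.assoc, ← Category.assoc, MonObj.comp_mul, MonObj.comp_mul, Category.comp_id, Category.comp_id,
      comp_nwX, comp_nwX, _root_.mul_assoc]
    refine mul_eq_mul_of_actsBy hq w.1 a _ _ (nwX_acts D w W) ?_
    have h1 := (actsBy_dT (D := D) t).mul (nwX_acts D w W)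
    rwa [AddMonoidHom.comp_id] at h1)
  refine ⟨r, fun X x => ?_⟩
  rw [hr, ← Category.assoc, MonObj.comp_mul, Category.comp_id, comp_nwX]

/-- the action of an element of the Weyl group on `G/T` -/
noncomputable def rr (w : D.P.weylGroup) : Q ⟶ Q := (exists_r D hq w).choose

lemma comp_rr (w : D.P.weylGroup) {X : Over S} (x : X ⟶ G) : x ≫ q ≫ rr D hq w = (x * nwX D w X) ≫ q :=
  (exists_r D hq w).choose_spec X x

lemma weightMap_mul (w w' : D.P.weylGroup) : (w * w').1.weightMap.toAddMonoidHom =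
    w.1.weightMap.toAddMonoidHom.comp w'.1.weightMap.toAddMonoidHom := AddMonoidHom.ext fun _ => rfl

lemma weightMap_one : (1 : D.P.weylGroup).1.weightMap.toAddMonoidHom = AddMonoidHom.id _ :=
  AddMonoidHom.ext fun _ => rfl

lemma rr_comp (w w' : D.P.weylGroup) : rr D hq w ≫ rr D hq w' = rr D hq (w' * w) := by
  apply epi_q D hq
  have h1 := comp_rr D hq w (𝟙 G)
  have h2 := comp_rr D hq (w' * w) (𝟙 G)
  rw [Category.id_comp] at h1 h2
  rw [← Category.assoc, h1, Category.assoc, comp_rr, h2, _root_.mul_assoc]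
  refine mul_eq_mul_of_actsBy hq (w' * w).1 _ _ _ ?_ (nwX_acts D (w' * w) G)
  rw [weightMap_mul]
  exact (nwX_acts D w G).mul (nwX_acts D w' G)

lemma rr_one : rr D hq 1 = 𝟙 Q := by
  apply epi_q D hq
  have h1 := comp_rr D hq 1 (𝟙 G)
  rw [Category.id_comp] at h1
  rw [h1, Category.comp_id]
  have h2 := mul_eq_mul_of_actsBy hq (1 : D.P.weylGroup).1 (𝟙 G) (nwX D 1 G) 1 (nwX_acts D 1 G) (by
    rw [weightMap_one]
    intro X x t
    rw [MonObj.comp_one, _root_.one_mul, inv_one, _root_.mul_one, DSmap_id])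
  rw [h2, _root_.mul_one, Category.id_comp]

/-- the action of the Weyl group on `G/T` by automorphisms -/
noncomputable def rho : ULift.{u} D.P.weylGroup →* Aut Q :=
  MonoidHom.mk' (fun w => ⟨rr D hq w.down, rr D hq w.down⁻¹, by rw [rr_comp, inv_mul_cancel, rr_one],
    by rw [rr_comp, mul_inv_cancel, rr_one]⟩) (by
    intro a b
    apply Iso.ext
    exact (rr_comp D hq b.down a.down).symm)

lemma rho_hom (w : ULift.{u} D.P.weylGroup) : (rho D hq w).hom = rr D hq w.down := rfl

lemma weylGroup_ext {w w' : D.P.weylGroup} (h : w.1.weightMap.toAddMonoidHom = w'.1.weightMap.toAddMonoidHom) :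
    w = w' := by
  apply Subtype.ext
  apply RootPairing.Equiv.weightHom_injective D.P
  apply LinearEquiv.ext
  intro m
  exact DFunLike.congr_fun h m

/-- The action is free on geometric points (indeed on all points of nonempty schemes). -/
theorem rho_free (K : Type u) [Field K] (ξ : Spec (CommRingCat.of K) ⟶ Q.left) (w : ULift.{u} D.P.weylGroup)
    (h : ξ ≫ (rho D hq w).hom.left = ξ) : w = 1 := by
  have := hq.surj
  let X : Over S := Over.mk (pullback.fst ξ q.left ≫ ξ ≫ Q.hom)
  let a : X ⟶ Q := Over.homMk (pullback.fst ξ q.left ≫ ξ) (Category.assoc _ _ _)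
  let x : X ⟶ G := Over.homMk (pullback.snd ξ q.left) (by
    change pullback.snd ξ q.left ≫ G.hom = pullback.fst ξ q.left ≫ ξ ≫ Q.hom
    rw [← Over.w q, ← Category.assoc, ← pullback.condition, Category.assoc])
  have hx : x ≫ q = a := Over.OverMorphism.ext pullback.condition.symm
  have ha : a ≫ rr D hq w.down = a := by
    apply Over.OverMorphism.ext
    change (pullback.fst ξ q.left ≫ ξ) ≫ (rho D hq w).hom.left = pullback.fst ξ q.left ≫ ξ
    rw [Category.assoc, h]
  have hX : Nonempty X.left := by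
    obtain ⟨z⟩ : Nonempty (Spec (CommRingCat.of K)) := inferInstance
    obtain ⟨y, -⟩ := (pullback.fst ξ q.left).surjective z
    exact ⟨y⟩
  rw [← hx, Category.assoc, comp_rr] at ha
  obtain ⟨t, ht⟩ := (agree_dT hq _ _).1 ha.symm
  have h1 : nwX D w.down X = dT D t := mul_left_cancel ht
  have h2 := actsBy_unique hX (nwX_acts D w.down X) (h1 ▸ actsBy_dT (D := D) t)
  apply ULift.ext
  exact weylGroup_ext D h2

end quot

section spec

variable {R : Type u} [CommRing R] {G : Over (Spec (CommRingCat.of R))} [GrpObj G] (D : Red.SplitRed G)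

/-- **The quotient of a split reductive group by the normaliser of its torus.** -/
theorem exists_quotN [Nontrivial R] : ∃ (M : Over (Spec (CommRingCat.of R))) (q : G ⟶ M),
    IsAffineHom M.hom ∧ Smooth M.hom ∧ IsAffine M.left ∧ Smooth q.left ∧ Surjective q.left ∧
    (∀ (X : Over (Spec (CommRingCat.of R))) (x y : X ⟶ G), x ≫ q = y ≫ q → ∀ t : X.left,
      ∃ (X' : Over (Spec (CommRingCat.of R))) (j : X' ⟶ X), IsOpenImmersion j.left ∧ t ∈ Set.range j.left ∧
        ∃ (w : D.P.weylGroup) (τ : X' ⟶ Red.DS _ D.M), j ≫ y = (j ≫ x) * nwX D w X' * dT D τ) ∧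
    (∀ (X : Over (Spec (CommRingCat.of R))) (x y : X ⟶ G), Normalises D (x⁻¹ * y) → x ≫ q = y ≫ q) := by
  have h1 : IsAffineHom G.hom := D.reductive.1
  have h2 : Smooth G.hom := D.reductive.2.1
  have := D.maximalTorus.1
  have hm := D.maximalTorus.2.1
  have hi : IsClosedImmersion D.i.left :=
    TorClosed636.isClosedImmersion_of_isMaximalTorus D.reductive D.maximalTorus
  obtain ⟨Q, q, hq, hQ1, hQ2⟩ := AdQuot.exists_quot R G D.T h1 h2 D.i hi D.M ⟨D.split⟩
  have hT : Smooth D.T.hom := TorusAlgClosed.smooth_of_isTorus D.maximalTorus.2.2.1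
  have hqs : Smooth q.left := smooth_quot hq
  have hqsurj := hq.surj
  have hQa : IsAffine Q.left := isAffine_of_isAffineHom Q.hom
  have : Nonempty (Spec (CommRingCat.of R)) := inferInstanceAs (Nonempty (PrimeSpectrum R))
  have := finite_weyl D
  obtain ⟨M, p, hp1, hp2, hp3, hM1, hM2, hM3, hinv, hloc⟩ := FreeQ.exists_freeQuot Q (rho D hq)
    (fun K _ _ ξ w h => rho_free D hq K ξ w h)
  refine ⟨M, q ≫ p, hM1, hM2, hM3, ?_, ?_, ?_, ?_⟩
  · rw [Over.comp_left]
    infer_instance
  · rw [Over.comp_left]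
    infer_instance
  · intro X x y hxy t
    rw [← Category.assoc, ← Category.assoc] at hxy
    obtain ⟨X', j, hj, ht, w, hw⟩ := hloc X (x ≫ q) (y ≫ q) hxy t
    refine ⟨X', j, hj, ht, w.down, ?_⟩
    rw [rho_hom, ← Category.assoc, Category.assoc x, ← Category.assoc j x, comp_rr] at hw
    exact (agree_dT hq _ _).1 hw.symm
  · intro X x y hn
    refine AdFppf.ext_fppf _ _ fun t => ?_
    obtain ⟨U, htU, w, hw, hacts⟩ := exists_nhd hn t
    let X' : Over (Spec (CommRingCat.of R)) := Over.mk (U.ι ≫ X.hom)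
    let j : X' ⟶ X := Over.homMk U.ι
    have hj : Set.range j.left ⊆ (U : Set X.left) := by
      rintro _ ⟨z, rfl⟩
      exact z.2
    have hact := hacts X' j hj
    refine ⟨X', j, inferInstanceAs (Flat U.ι), inferInstanceAs (LocallyOfFinitePresentation U.ι), ⟨⟨t, htU⟩, rfl⟩, ?_⟩
    have h3 := mul_eq_mul_of_actsBy hq w (j ≫ x) _ _ hact (nwX_acts D ⟨w, hw⟩ X')
    have h4 : (j ≫ x) * (j ≫ (x⁻¹ * y)) = j ≫ y := by
      rw [← MonObj.comp_mul, mul_inv_cancel_left]
    rw [h4, ← comp_rr D hq] at h3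
    have h5 := congrArg (· ≫ p) h3
    have h6 := hinv ⟨⟨w, hw⟩⟩
    rw [rho_hom] at h6
    simp only [Category.assoc] at h5 ⊢
    rw [h5, h6]

end spec

end Groth.Agent.RedSub.H647.NormQuot
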