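import Groth.Agent.Picfga.IdealDescent
import Groth.Agent.Picfga.IdealGlue
import Mathlib.AlgebraicGeometry.Morphisms.FinitePresentation
import Mathlib.AlgebraicGeometry.Morphisms.Separated
import Mathlib.AlgebraicGeometry.Morphisms.Etale

/-!
# Covers which are locally on the target refined by flat surjective quasi-compact morphisms

`IsQCov q`, for a family `q i : Y' i ⟶ Y`: every point of `Y` has an open neighbourhood `W` and a flat surjective
quasi-compact `V ⟶ W` factoring through some `q i`.  Examples: jointly surjective families of flat lfp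
(e.g. étale) morphisms (`IsQCov.of_flat`), a single flat surjective quasi-compact morphism (`IsQCov.single`), an fpqc
covering (`IsQCov.of_fpqc`).  Stable under base change (`IsQCov.of_isPullback`).

Ideal sheaves (closed subschemes) satisfy the sheaf condition for these covers: `IsQCov.existsUnique_ideal`.
-/

set_option autoImplicit false
universe u

open CategoryTheory CategoryTheory.Limits AlgebraicGeometry

namespace Groth.Agent.RedSub.H647.QCov

open Groth.Agent.Picfga

/-- Every point of `Y` has an open neighbourhood `W` and a flat surjective quasi-compact `V ⟶ W` factoring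
through some `q i`. -/
def IsQCov {ι : Type u} {Y : Scheme.{u}} {Y' : ι → Scheme.{u}} (q : ∀ i, Y' i ⟶ Y) : Prop :=
  ∀ y : Y, ∃ (i : ι) (W V : Scheme.{u}) (w : W ⟶ Y) (v : V ⟶ Y' i) (p : V ⟶ W), IsOpenImmersion w ∧
    y ∈ Set.range w ∧ Flat p ∧ Surjective p ∧ QuasiCompact p ∧ v ≫ q i = p ≫ w

section basic

variable {ι : Type u} {Y : Scheme.{u}} {Y' : ι → Scheme.{u}} {q : ∀ i, Y' i ⟶ Y}

lemma IsQCov.surj (h : IsQCov q) (y : Y) : ∃ (i : ι) (y' : Y' i), q i y' = y := by
  obtain ⟨i, W, V, w, v, p, _, ⟨x, hx⟩, _, _, _, e⟩ := h y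
  obtain ⟨z, hz⟩ := p.surjective x
  refine ⟨i, v z, ?_⟩
  rw [← Scheme.Hom.comp_apply, e, Scheme.Hom.comp_apply, hz, hx]

/-- a single flat surjective quasi-compact morphism -/
lemma IsQCov.single {Y' Y : Scheme.{u}} (q : Y' ⟶ Y) [Flat q] [Surjective q] [QuasiCompact q] :
    IsQCov (ι := PUnit.{u+1}) (Y' := fun _ => Y') (fun _ => q) := by
  intro y
  exact ⟨PUnit.unit, Y, Y', 𝟙 _, 𝟙 _, q, inferInstance, ⟨y, rfl⟩, inferInstance, inferInstance, inferInstance,
    by simp⟩

/-- A morphism `V ⟶ Y` from a quasi-compact scheme, flat, with image the open subscheme `W` of an affine open. -/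
lemma exists_factor {V Y : Scheme.{u}} (g : V ⟶ Y) [Flat g] [CompactSpace V] (W : Y.Opens)
    (hW : Set.range g = (W : Set Y)) (hq : QuasiSeparatedSpace (W : Scheme.{u})) :
    ∃ p : V ⟶ (W : Scheme.{u}), p ≫ W.ι = g ∧ Flat p ∧ Surjective p ∧ QuasiCompact p := by
  let p : V ⟶ (W : Scheme.{u}) := IsOpenImmersion.lift W.ι g (by rw [Scheme.Opens.range_ι, hW])
  have hp : p ≫ W.ι = g := IsOpenImmersion.lift_fac _ _ _
  have h1 : IsPullback (𝟙 V) p g W.ι := by
    have h2 : IsPullback (𝟙 V) p (p ≫ W.ι) W.ι := by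
      have h3 : IsPullback (𝟙 _) (𝟙 _) W.ι W.ι := IsPullback.of_isLimit' ⟨rfl⟩ (PullbackCone.isLimitMkIdId W.ι)
      have h4 : IsPullback (𝟙 V) p p (𝟙 _) := IsPullback.of_horiz_isIso ⟨by simp⟩
      have h5 := h4.flip.paste_horiz h3.flip
      simpa using h5.flip
    rwa [hp] at h2
  have h6 : Flat p := MorphismProperty.of_isPullback h1 ‹Flat g›
  refine ⟨p, hp, h6, ⟨?_⟩, ?_⟩
  · intro x
    have hx : W.ι x ∈ Set.range g := by rw [hW]; exact x.2
    obtain ⟨z, hz⟩ := hx
    refine ⟨z, W.ι.isOpenEmbedding.injective ?_⟩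
    rw [← Scheme.Hom.comp_apply, hp, hz]
  · exact quasiCompact_of_compactSpace p

/-- Families of flat morphisms locally of finite presentation. -/
lemma IsQCov.of_flat (h1 : ∀ i, Flat (q i)) (h2 : ∀ i, LocallyOfFinitePresentation (q i))
    (h3 : ∀ y, ∃ (i : ι) (y' : Y' i), q i y' = y) : IsQCov q := by
  intro y
  obtain ⟨i, y', rfl⟩ := h3 y
  obtain ⟨U, hU, hyU, -⟩ := exists_isAffineOpen_mem_and_subset (x := q i y') (U := ⊤) trivial
  obtain ⟨V, hV, hyV, hVU⟩ := exists_isAffineOpen_mem_and_subset (x := y') (U := q i ⁻¹ᵁ U) hyU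
  have := h1 i
  have := h2 i
  have ho : IsOpenMap (q i) := (q i).isOpenMap
  let W : Y.Opens := ⟨q i '' (V : Set (Y' i)), ho _ V.2⟩
  have hWU : W ≤ U := by
    rintro _ ⟨x, hx, rfl⟩
    exact hVU hx
  have : IsAffine (V : Scheme.{u}) := hV
  have : IsAffine (U : Scheme.{u}) := hU
  have hqs : QuasiSeparatedSpace (W : Scheme.{u}) := by
    have h1 : IsSeparated (Y.homOfLE hWU ≫ terminal.from _) := inferInstance
    have h2 : Y.homOfLE hWU ≫ terminal.from _ = terminal.from _ := by ext
    rw [h2] at h1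
    have h3 : (W : Scheme.{u}).IsSeparated := ⟨h1⟩
    infer_instance
  obtain ⟨p, hp, h4, h5, h6⟩ := exists_factor (V.ι ≫ q i) W (by
    ext x
    constructor
    · rintro ⟨z, rfl⟩
      exact ⟨z.1, z.2, by rw [Scheme.Hom.comp_apply]; rfl⟩
    · rintro ⟨z, hz, rfl⟩
      exact ⟨⟨z, hz⟩, by rw [Scheme.Hom.comp_apply]; rfl⟩) hqs
  exact ⟨i, W, V, W.ι, V.ι, p, inferInstance, ⟨⟨_, ⟨y', hyV, rfl⟩⟩, rfl⟩, h4, h5, h6, hp.symm⟩

/-- Families of étale morphisms. -/
lemma IsQCov.of_etale (h1 : ∀ i, Etale (q i)) (h3 : ∀ y, ∃ (i : ι) (y' : Y' i), q i y' = y) : IsQCov q :=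
  IsQCov.of_flat (fun _ => inferInstance) (fun _ => inferInstance) h3

/-- fpqc coverings: flat morphisms such that every affine open is the image of a quasi-compact open. -/
lemma IsQCov.of_fpqc {Y' Y : Scheme.{u}} (q : Y' ⟶ Y) [Flat q]
    (h : ∀ W : Y.Opens, IsAffineOpen W → ∃ V : Y'.Opens, IsCompact (V : Set Y') ∧ q '' (V : Set Y') = (W : Set Y)) :
    IsQCov (ι := PUnit.{u+1}) (Y' := fun _ => Y') (fun _ => q) := by
  intro y
  obtain ⟨W, hW, hyW, -⟩ := exists_isAffineOpen_mem_and_subset (x := y) (U := ⊤) trivial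
  obtain ⟨V, hV, hVW⟩ := h W hW
  have : IsAffine (W : Scheme.{u}) := hW
  have : CompactSpace (V : Scheme.{u}) := isCompact_iff_compactSpace.1 hV
  obtain ⟨p, hp, h4, h5, h6⟩ := exists_factor (V.ι ≫ q) W (by
    rw [← hVW]
    ext x
    constructor
    · rintro ⟨z, rfl⟩
      exact ⟨z.1, z.2, by rw [Scheme.Hom.comp_apply]; rfl⟩
    · rintro ⟨z, hz, rfl⟩
      exact ⟨⟨z, hz⟩, by rw [Scheme.Hom.comp_apply]; rfl⟩) inferInstance
  exact ⟨PUnit.unit, W, V, W.ι, V.ι, p, inferInstance, ⟨⟨_, hyW⟩, rfl⟩, h4, h5, h6, hp.symm⟩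

/-- Base change. -/
lemma IsQCov.of_isPullback {Z : Scheme.{u}} {g : Z ⟶ Y} {Z' : ι → Scheme.{u}} {g' : ∀ i, Z' i ⟶ Y' i}
    {q' : ∀ i, Z' i ⟶ Z} (H : ∀ i, IsPullback (g' i) (q' i) (q i) g) (hq : IsQCov q) : IsQCov q' := by
  intro z
  obtain ⟨i, W, V, w, v, p, hw, ⟨x, hx⟩, h1, h2, h3, e⟩ := hq (g z)
  refine ⟨i, pullback w g, pullback p (pullback.fst w g), pullback.snd w g,
    (H i).lift (pullback.fst p (pullback.fst w g) ≫ v) (pullback.snd p (pullback.fst w g) ≫ pullback.snd w g) ?_,
    pullback.snd p (pullback.fst w g), inferInstance, ?_, inferInstance, inferInstance, inferInstance,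
    (H i).lift_snd _ _ _⟩
  · rw [Category.assoc, e, ← Category.assoc, pullback.condition, Category.assoc, pullback.condition,
      Category.assoc]
  · obtain ⟨t, ht, ht'⟩ := Scheme.Pullback.exists_preimage_pullback (f := w) (g := g) x z hx
    exact ⟨t, ht'⟩

end basic

section ideal

variable {ι : Type u} {Y : Scheme.{u}} {Y' : ι → Scheme.{u}} {q : ∀ i, Y' i ⟶ Y}

/-- Ideal sheaves are determined by their pullbacks to a cover. -/
theorem IsQCov.ideal_ext (hq : IsQCov q) {I J : Y.IdealSheafData} (h : ∀ i, I.comap (q i) = J.comap (q i)) :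
    I = J := by
  refine IdealGlue.ext_of_forall_exists fun y => ?_
  obtain ⟨i, W, V, w, v, p, hw, ⟨x, hx⟩, _, _, _, e⟩ := hq y
  refine ⟨W, w, hw, x, hx, IdealDescent.comap_injective_of_fpqc p ?_⟩
  dsimp only
  rw [← Scheme.IdealSheafData.comap_comp, ← Scheme.IdealSheafData.comap_comp, ← e,
    Scheme.IdealSheafData.comap_comp, Scheme.IdealSheafData.comap_comp, h i]

/-- Inequalities of ideal sheaves can be checked on a cover. -/
theorem IsQCov.ideal_le (hq : IsQCov q) {I J : Y.IdealSheafData} (h : ∀ i, I.comap (q i) ≤ J.comap (q i)) :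
    I ≤ J := by
  have h1 : I ⊔ J = J := hq.ideal_ext fun i => by
    rw [Scheme.IdealSheafData.comap_sup]
    exact sup_eq_right.mpr (h i)
  exact sup_eq_right.mp h1

/-- **Closed subschemes satisfy the sheaf condition for `QCov` covers.** -/
theorem IsQCov.existsUnique_ideal (hq : IsQCov q) (I : ∀ i, (Y' i).IdealSheafData)
    (hI : ∀ (i j : ι) (R : Scheme.{u}) (a : R ⟶ Y' i) (b : R ⟶ Y' j), a ≫ q i = b ≫ q j →
      (I i).comap a = (I j).comap b) : ∃! J : Y.IdealSheafData, ∀ i, J.comap (q i) = I i := by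
  choose i W V w v p hw hy h1 h2 h3 e using hq
  -- the descended ideals on the `W y`
  have key : ∀ y, ∃ K : (W y).IdealSheafData, K.comap (p y) = (I (i y)).comap (v y) := by
    intro y
    have := h1 y
    have := h3 y
    refine ⟨((I (i y)).comap (v y)).map (p y),
      IdealDescent.comap_map_eq_of_descent (IsPullback.of_hasPullback (p y) (p y)) _ ?_⟩
    rw [← Scheme.IdealSheafData.comap_comp, ← Scheme.IdealSheafData.comap_comp]
    refine hI _ _ _ _ _ ?_
    rw [Category.assoc, e, ← Category.assoc, pullback.condition, Category.assoc, Category.assoc, e]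
  choose K hK using key
  have hcompat : ∀ x y, (K x).comap (pullback.fst (w x) (w y)) = (K y).comap (pullback.snd (w x) (w y)) := by
    intro x y
    have := h1 x
    have := h1 y
    have := h2 x
    have := h2 y
    have := h3 x
    have := h3 y
    -- `R ⟶ W x ×_Y W y` flat surjective quasi-compact
    let R₁ := pullback (p x) (pullback.fst (w x) (w y))
    let r₁ : R₁ ⟶ pullback (w x) (w y) := pullback.snd _ _
    let R₂ := pullback (p y) (r₁ ≫ pullback.snd (w x) (w y))
    let r₂ : R₂ ⟶ R₁ := pullback.snd _ _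
    have e1 : r₁ ≫ pullback.fst (w x) (w y) = pullback.fst (p x) (pullback.fst (w x) (w y)) ≫ p x :=
      pullback.condition.symm
    have e2 : r₂ ≫ r₁ ≫ pullback.snd (w x) (w y) = pullback.fst (p y) (r₁ ≫ pullback.snd (w x) (w y)) ≫ p y :=
      pullback.condition.symm
    refine IdealDescent.comap_injective_of_fpqc r₁ (IdealDescent.comap_injective_of_fpqc r₂ ?_)
    dsimp only
    rw [← Scheme.IdealSheafData.comap_comp, ← Scheme.IdealSheafData.comap_comp,
      ← Scheme.IdealSheafData.comap_comp, ← Scheme.IdealSheafData.comap_comp, Category.assoc, Category.assoc,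
      e1, e2, ← Category.assoc, Scheme.IdealSheafData.comap_comp (K y), hK,
      Scheme.IdealSheafData.comap_comp (K x), hK,
      ← Scheme.IdealSheafData.comap_comp, ← Scheme.IdealSheafData.comap_comp]
    refine hI _ _ _ _ _ ?_
    have e3 : (r₂ ≫ pullback.fst (p x) (pullback.fst (w x) (w y))) ≫ p x ≫ w x =
        pullback.fst (p y) (r₁ ≫ pullback.snd (w x) (w y)) ≫ p y ≫ w y := by
      rw [← Category.assoc (pullback.fst (p y) _), ← e2, Category.assoc, ← Category.assoc _ (p x), ← e1]
      simp only [Category.assoc, pullback.condition]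
    rw [Category.assoc _ (v x), Category.assoc _ (v y), e, e, e3]
  obtain ⟨J, hJ, -⟩ := IdealGlue.exists_unique_glue_family W w (fun y => ⟨y, hy y⟩) K hcompat
  have hJi : ∀ j, J.comap (q j) = I j := by
    intro j
    refine IdealGlue.ext_of_forall_exists fun z => ?_
    have := h1 (q j z)
    have := h2 (q j z)
    have := h3 (q j z)
    set y := q j z with hyz
    obtain ⟨x, hx⟩ := hy y
    obtain ⟨t, ht, ht'⟩ := Scheme.Pullback.exists_preimage_pullback (f := q j) (g := w y) z x (by rw [hx])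
    refine ⟨pullback (q j) (w y), pullback.fst _ _, inferInstance, t, ht, ?_⟩
    let r : pullback (p y) (pullback.snd (q j) (w y)) ⟶ pullback (q j) (w y) := pullback.snd _ _
    refine IdealDescent.comap_injective_of_fpqc r ?_
    have e1 : r ≫ pullback.snd (q j) (w y) = pullback.fst (p y) (pullback.snd (q j) (w y)) ≫ p y :=
      pullback.condition.symm
    dsimp only
    rw [← Scheme.IdealSheafData.comap_comp, ← Scheme.IdealSheafData.comap_comp,
      ← Scheme.IdealSheafData.comap_comp, Category.assoc, pullback.condition, ← Category.assoc, e1,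
      Scheme.IdealSheafData.comap_comp J, hJ, Scheme.IdealSheafData.comap_comp (K y), hK,
      ← Scheme.IdealSheafData.comap_comp]
    refine hI _ _ _ _ _ ?_
    rw [Category.assoc _ (v y), e, ← Category.assoc _ (p y), ← e1, Category.assoc, Category.assoc,
      pullback.condition]
  refine ⟨J, hJi, fun J' hJ' => ?_⟩
  refine IsQCov.ideal_ext (q := q) (fun y => ⟨i y, W y, V y, w y, v y, p y, hw y, hy y, h1 y, h2 y, h3 y, e y⟩)
    fun j => ?_
  rw [hJ', hJi]

end ideal

end Groth.Agent.RedSub.H647.QCov
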