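import Groth.Agent.Sga3B.RepDescent6

/-!
# Representability of a sheaf which is a quotient

`F` an étale sheaf on `Over S`, `q : P ⟶ M` étale-locally surjective, `c ∈ F(P)` étale-locally surjective, with the
same equivalence relation: `x ≫ q = y ≫ q ↔ x^* c = y^* c`.  Then `M` represents `F`.
-/

set_option autoImplicit false
universe u

open CategoryTheory CategoryTheory.Limits AlgebraicGeometry Opposite

namespace Groth.Agent.RedSub.H647.QuotRep

open Groth.Agent.Sga3B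

variable {S : Scheme.{u}} {F : (Over S)ᵒᵖ ⥤ Type u}

/-- sections of an étale sheaf which agree locally are equal -/
theorem sheaf_ext (hF : RepDescent.IsEtSheaf F) {X : Over S} (y z : F.obj (op X))
    (h : ∀ t : X.left, ∃ (X' : Over S) (f : X' ⟶ X), Etale f.left ∧ t ∈ Set.range f.left ∧
      F.map f.op y = F.map f.op z) : y = z := by
  choose X' f hf ht he using h
  obtain ⟨w, hw, hw'⟩ := hF X' f hf (fun t => ⟨t, ht t⟩) (fun t => F.map (f t).op y) (fun i j R a b hab => by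
    rw [← Functor.map_comp_apply, ← Functor.map_comp_apply, ← op_comp, ← op_comp, hab])
  rw [hw' y fun _ => rfl, hw' z fun i => (he i).symm]

/-- gluing of locally defined sections of an étale sheaf, in terms of a relation `Φ` -/
theorem exists_glue (hF : RepDescent.IsEtSheaf F) {X : Over S}
    (Φ : ∀ (X' : Over S) (_ : X' ⟶ X) (_ : F.obj (op X')), Prop)
    (hloc : ∀ t : X.left, ∃ (X' : Over S) (f : X' ⟶ X) (y : F.obj (op X')), Etale f.left ∧ t ∈ Set.range f.left ∧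
      Φ X' f y)
    (huniq : ∀ (X₁ X₂ R : Over S) (f₁ : X₁ ⟶ X) (f₂ : X₂ ⟶ X) (y₁ : F.obj (op X₁)) (y₂ : F.obj (op X₂))
      (a : R ⟶ X₁) (b : R ⟶ X₂), Φ X₁ f₁ y₁ → Φ X₂ f₂ y₂ → a ≫ f₁ = b ≫ f₂ → F.map a.op y₁ = F.map b.op y₂) :
    ∃ y : F.obj (op X), ∀ (X' : Over S) (f : X' ⟶ X) (y' : F.obj (op X')), Φ X' f y' → F.map f.op y = y' := by
  choose X' f y hf ht hΦ using hloc
  obtain ⟨w, hw, -⟩ := hF X' f hf (fun t => ⟨t, ht t⟩) y (fun i j R a b hab =>
    huniq _ _ _ _ _ _ _ a b (hΦ i) (hΦ j) hab)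
  refine ⟨w, fun X₁ f₁ y₁ hΦ₁ => ?_⟩
  -- pull back the cover to `X₁`
  refine sheaf_ext hF _ _ fun t₁ => ?_
  let t := f₁.left t₁
  have hft := hf t
  let X₂ : Over S := Over.mk (pullback.fst f₁.left (f t).left ≫ X₁.hom)
  let p : X₂ ⟶ X₁ := Over.homMk (pullback.fst f₁.left (f t).left)
  let r : X₂ ⟶ X' t := Over.homMk (pullback.snd f₁.left (f t).left) (by
    change pullback.snd f₁.left (f t).left ≫ (X' t).hom = pullback.fst f₁.left (f t).left ≫ X₁.hom
    rw [← Over.w (f t), ← Category.assoc, ← pullback.condition, Category.assoc, Over.w f₁])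
  have hpr : p ≫ f₁ = r ≫ f t := Over.OverMorphism.ext pullback.condition
  refine ⟨X₂, p, inferInstanceAs (Etale (pullback.fst f₁.left (f t).left)), ?_, ?_⟩
  · obtain ⟨z, hz⟩ := ht t
    obtain ⟨v, hv, -⟩ := Scheme.Pullback.exists_preimage_pullback (f := f₁.left) (g := (f t).left) t₁ z hz.symm
    exact ⟨v, hv⟩
  · rw [← Functor.map_comp_apply, ← op_comp, hpr, op_comp, Functor.map_comp_apply, hw]
    exact (huniq _ _ _ _ _ _ _ p r hΦ₁ (hΦ t) hpr).symm

/-- **Representability of a quotient.** -/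
theorem representableBy_of_quotient (hF : RepDescent.IsEtSheaf F) {P M : Over S} (q : P ⟶ M) (c : F.obj (op P))
    (hq : ∀ (X : Over S) (m : X ⟶ M) (t : X.left), ∃ (X' : Over S) (f : X' ⟶ X) (x : X' ⟶ P), Etale f.left ∧
      t ∈ Set.range f.left ∧ x ≫ q = f ≫ m)
    (hc : ∀ (X : Over S) (z : F.obj (op X)) (t : X.left), ∃ (X' : Over S) (f : X' ⟶ X) (x : X' ⟶ P), Etale f.left ∧
      t ∈ Set.range f.left ∧ F.map x.op c = F.map f.op z)
    (hqc : ∀ (X : Over S) (x y : X ⟶ P), x ≫ q = y ≫ q ↔ F.map x.op c = F.map y.op c) :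
    ∃ r : F.RepresentableBy M, r.homEquiv q = c := by
  have hM : RepDescent.IsEtSheaf (yoneda.obj M) := RepDescent.isEtSheaf_yoneda M
  -- the universal element
  obtain ⟨ξ, hξ⟩ := exists_glue hF (X := M) (fun X' f y => ∃ x : X' ⟶ P, x ≫ q = f ∧ F.map x.op c = y)
    (fun t => by
      obtain ⟨X', f, x, h1, h2, h3⟩ := hq M (𝟙 M) t
      exact ⟨X', f, F.map x.op c, h1, h2, x, by rw [h3, Category.comp_id], rfl⟩)
    (by
      rintro X₁ X₂ R f₁ f₂ y₁ y₂ a b ⟨x₁, hx₁, rfl⟩ ⟨x₂, hx₂, rfl⟩ hab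
      rw [← Functor.map_comp_apply, ← Functor.map_comp_apply, ← op_comp, ← op_comp, ← hqc, Category.assoc,
        Category.assoc, hx₁, hx₂, hab])
  have hξc : F.map q.op ξ = c := hξ P q c ⟨𝟙 P, Category.id_comp _, by rw [op_id, Functor.map_id_apply]⟩
  have hξx : ∀ {X : Over S} (x : X ⟶ P), F.map (x ≫ q).op ξ = F.map x.op c := by
    intro X x
    rw [op_comp, Functor.map_comp_apply, hξc]
  refine ⟨⟨fun {X} => Equiv.ofBijective (fun m => F.map m.op ξ) ⟨?_, ?_⟩, ?_⟩, hξc⟩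
  · intro m₁ m₂ h
    dsimp only at h
    refine sheaf_ext (F := yoneda.obj M) hM m₁ m₂ fun t => ?_
    obtain ⟨X₁, f₁, x₁, h1, ⟨t₁, ht₁⟩, h3⟩ := hq X m₁ t
    obtain ⟨X₂, f₂, x₂, h1', ⟨t₂, ht₂⟩, h3'⟩ := hq X₁ (f₁ ≫ m₂) t₁
    refine ⟨X₂, f₂ ≫ f₁, ?_, ?_, ?_⟩
    · rw [Over.comp_left]
      infer_instance
    · refine ⟨t₂, ?_⟩
      rw [Over.comp_left, Scheme.Hom.comp_apply, ht₂, ht₁]
    · change (f₂ ≫ f₁) ≫ m₁ = (f₂ ≫ f₁) ≫ m₂
      rw [Category.assoc, ← h3, Category.assoc, ← h3', ← Category.assoc, hqc, ← hξx, ← hξx, h3',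
        Category.assoc, h3, op_comp, Functor.map_comp_apply, op_comp, Functor.map_comp_apply, h,
        op_comp, Functor.map_comp_apply, op_comp, Functor.map_comp_apply]
  · intro z
    obtain ⟨m, hm⟩ := exists_glue hM (X := X) (fun X' f y => ∃ x : X' ⟶ P, x ≫ q = y ∧ F.map x.op c = F.map f.op z)
      (fun t => by
        obtain ⟨X', f, x, h1, h2, h3⟩ := hc X z t
        exact ⟨X', f, x ≫ q, h1, h2, x, rfl, h3⟩)
      (by
        rintro X₁ X₂ R f₁ f₂ y₁ y₂ a b ⟨x₁, rfl, hx₁⟩ ⟨x₂, rfl, hx₂⟩ hab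
        change a ≫ x₁ ≫ q = b ≫ x₂ ≫ q
        rw [← Category.assoc, ← Category.assoc, hqc, op_comp, Functor.map_comp_apply, hx₁,
          op_comp, Functor.map_comp_apply, hx₂, ← Functor.map_comp_apply, ← Functor.map_comp_apply, ← op_comp,
          ← op_comp, hab])
    refine ⟨m, sheaf_ext hF _ _ fun t => ?_⟩
    obtain ⟨X', f, x, h1, h2, h3⟩ := hc X z t
    refine ⟨X', f, h1, h2, ?_⟩
    have h4 : f ≫ m = x ≫ q := hm X' f (x ≫ q) ⟨x, rfl, h3⟩
    rw [← Functor.map_comp_apply, ← op_comp, h4, hξx, h3]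
  · intro X X' f g
    change F.map (f ≫ g).op ξ = F.map f.op (F.map g.op ξ)
    rw [op_comp, Functor.map_comp_apply]

end Groth.Agent.RedSub.H647.QuotRep
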