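import Groth.Agent.RedSub.H647.SubF
import Groth.Agent.Sga3B.MT.TorusFam
import Groth.Agent.Sga3B.TorClosed636
import Groth.Agent.Sga3B.RedBc892U

/-!
# The functor of maximal tori

* `torClass G hbc` : the class of maximal tori of the base changes of an affine group `G`, `hbc` the stability of
  `Red.IsMaximalTorus` under base change; `torRed hG` : the case of reductive groups;
* `isLocal_torClass` : it is étale local; `isEtSheaf_torClass`;
* `representsTor_iff` : `RedSub.RepresentsTor G M H h ↔ (torClass G hbc).Represents M h`;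
* `representableBy_of_representsTor` : a scheme representing the maximal tori of `G_V` represents the restriction
  of the functor to `V`;
* `exists_representsTor` : étale descent of representability of the functor of maximal tori.
-/

set_option autoImplicit false
universe u

open CategoryTheory CategoryTheory.Limits AlgebraicGeometry Opposite MonoidalCategory CartesianMonoidalCategory
  MonObj GrpObj

namespace Groth.Agent.RedSub.H647.TorF

open Groth.Agent.RedSub.H647.QCov Groth.Agent.RedSub.H647.ClosedF Groth.Agent.RedSub.H647.SubPt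
  Groth.Agent.RedSub.H647.SubF Groth.Agent.Sga3B Groth.Agent.Sga3B.MT Groth.Agent.Sga3B.BcPts

variable {S : Scheme.{u}} {G : Over S} [GrpObj G]

lemma isMaximalTorus_comp_iso {S' : Scheme.{u}} {G₁ G₂ : Over S'} [GrpObj G₁] [GrpObj G₂] {H : Over S'} [GrpObj H]
    (h : H ⟶ G₁) (e : Grp.mk G₁ ≅ Grp.mk G₂) (hh : Red.IsMaximalTorus h) :
    Red.IsMaximalTorus (h ≫ e.hom.hom.hom) :=
  AlgBc.isMaximalTorus_of_arrow (Iso.refl _) e (Category.id_comp _).symm hh

lemma bcSub_eq {S' S'' : Scheme.{u}} (q : S'' ⟶ S') {f : S' ⟶ S} {H : Over S'} (h : H ⟶ Red.bc f G) :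
    bcSub q h = (Over.pullback q).map h ≫ (BcIso.bcCompIso q f G).symm.hom.hom.hom :=
  congrArg ((Over.pullback q).map h ≫ ·) (SubClass.und_bcCompIso_symm (G := G) f q).symm

/-- maximal tori and `bcSub` -/
lemma isMaximalTorus_bcSub_iff {S' S'' : Scheme.{u}} (q : S'' ⟶ S') {f : S' ⟶ S} {H : Over S'} [GrpObj H]
    (h : H ⟶ Red.bc f G) : Red.IsMaximalTorus (bcSub q h) ↔ Red.IsMaximalTorus ((Over.pullback q).map h) := by
  rw [bcSub_eq]
  constructor
  · intro h1
    have h2 := isMaximalTorus_comp_iso _ (BcIso.bcCompIso q f G) h1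
    have e : (BcIso.bcCompIso q f G).symm.hom.hom.hom ≫ (BcIso.bcCompIso q f G).hom.hom.hom = 𝟙 _ :=
      congrArg (fun k => k.hom.hom) (BcIso.bcCompIso q f G).inv_hom_id
    rwa [Category.assoc, e, Category.comp_id] at h2
  · exact isMaximalTorus_comp_iso ((Over.pullback q).map h) (BcIso.bcCompIso q f G).symm

lemma isMaximalTorus_down_iff {V S' : Scheme.{u}} (v : V ⟶ S) {q : S' ⟶ V} {H : Over S'} [GrpObj H]
    (h : H ⟶ Red.bc q (Red.bc v G)) : Red.IsMaximalTorus (SubClass.down v h) ↔ Red.IsMaximalTorus h := by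
  constructor
  · intro h1
    have h2 := isMaximalTorus_comp_iso _ (BcIso.bcCompIso q v G) h1
    have e : (BcIso.bcCompIso q v G).symm.hom.hom.hom ≫ (BcIso.bcCompIso q v G).hom.hom.hom = 𝟙 _ :=
      congrArg (fun k => k.hom.hom) (BcIso.bcCompIso q v G).inv_hom_id
    have h3 : SubClass.down v h ≫ (BcIso.bcCompIso q v G).hom.hom.hom = h := by
      change (h ≫ (BcIso.bcCompIso q v G).symm.hom.hom.hom) ≫ (BcIso.bcCompIso q v G).hom.hom.hom = h
      rw [Category.assoc, e, Category.comp_id]
    rwa [h3] at h2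
  · exact isMaximalTorus_comp_iso h (BcIso.bcCompIso q v G).symm

variable (G) in
/-- stability of maximal tori of the base changes of `G` under base change -/
def TorBc : Prop := ∀ {S' S'' : Scheme.{u}} (q : S'' ⟶ S') {f : S' ⟶ S} {H : Over S'} [GrpObj H]
  {h : H ⟶ Red.bc f G}, Red.IsMaximalTorus h → Red.IsMaximalTorus (bcSub q h)

/-- stability under base change for reductive groups -/
theorem torBc_of_isReductive (hG : Red.IsReductive G) : TorBc G := fun q f _ _ _ hh =>
  (isMaximalTorus_bcSub_iff q _).2 (MaxTorBc636.isMaximalTorus_bc q (RedBc892U.isReductive_bc f hG) hh)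

variable (G) in
/-- The class of maximal tori of the base changes of an affine group. -/
def torClass [hGa : IsAffineHom G.hom] (hbc : TorBc G) : SubClass G where
  Q _ _ _ h := Red.IsMaximalTorus h
  isMonHom hh := hh.1
  isClosedImmersion {S' f H _ h} hh := by
    have : IsAffineHom (Red.bc f G).hom := MorphismProperty.pullback_snd (P := @IsAffineHom) _ _ hGa
    have := hh.1
    have := hh.2.1
    exact TorClosed636.isClosedImmersion_of_isTorus h hh.2.2.1
  of_iso {S' f H H' _ _ h h'} e he hh := by
    refine AlgBc.isMaximalTorus_of_arrow e (Iso.refl _) ?_ hh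
    rw [← he]
    exact (Category.comp_id _).symm
  bc q _ _ _ _ hh := hbc q hh

variable [IsAffineHom G.hom] (hbc : TorBc G)

@[simp] lemma torClass_Q {S' : Scheme.{u}} (f : S' ⟶ S) {H : Over S'} [GrpObj H] (h : H ⟶ Red.bc f G) :
    (torClass G hbc).Q f h ↔ Red.IsMaximalTorus h := Iff.rfl

/-- Being a maximal torus is étale local. -/
theorem isLocal_torClass : (torClass G hbc).IsLocal (fun {_ _ _} q => SubClass.EtCov q) := by
  intro S' f J S'' q hq H _ h h1 h2 h3
  have : Mono h := Sga3C.ClosedSub.mono_of_left h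
  refine MT.isMaximalTorus_of_family q hq.1 (fun s => ?_) h h1 inferInstance fun j =>
    (isMaximalTorus_bcSub_iff (q j) h).1 (h3 j)
  obtain ⟨j, y, hy⟩ := hq.2 s
  exact ⟨j, y, hy⟩

theorem isEtSheaf_torClass : RepDescent.IsEtSheaf (torClass G hbc).subsF :=
  (torClass G hbc).isEtSheaf_subsF (isLocal_torClass hbc)

theorem representsTor_iff (M : Over S) (H : Over M.left) [GrpObj H] (h : H ⟶ Red.bc M.hom G) :
    RedSub.RepresentsTor G M H h ↔ (torClass G hbc).Represents M h := Iff.rfl

/-- A scheme representing the maximal tori of `G_V` represents the restriction of the functor to `V`. -/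
theorem representableBy_of_representsTor {V : Scheme.{u}} (v : V ⟶ S) {M : Over V} {H : Over M.left} [GrpObj H]
    {h : H ⟶ Red.bc M.hom (Red.bc v G)} (hM : RedSub.RepresentsTor (Red.bc v G) M H h) :
    Nonempty (((Over.map v).op ⋙ (torClass G hbc).subsF).RepresentableBy M) := by
  refine (torClass G hbc).representableBy_of v h ((isMaximalTorus_down_iff v h).2 hM.1) ?_
  intro S' f H' _ h' hh'
  exact hM.2 S' f H' h' ((isMaximalTorus_down_iff v h').1 hh')

include hbc in
/-- **Étale descent of the representability of the functor of maximal tori**, with étale local properties `P` of the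
representing scheme. -/
theorem exists_representsTor
    (hloc : ∀ s : S, ∃ (V : Scheme.{u}) (v : V ⟶ S), Etale v ∧ s ∈ Set.range v ∧ ∃ (M : Over V) (H : Over M.left)
      (_ : GrpObj H) (h : H ⟶ Red.bc M.hom (Red.bc v G)), RedSub.RepresentsTor (Red.bc v G) M H h ∧
        ∀ U : M.left.Opens, IsCompact (U : Set M.left) → (U : Scheme.{u}).IsQuasiAffine) :
    ∃ (M : Over S) (H : Over M.left) (_ : GrpObj H) (h : H ⟶ Red.bc M.hom G), RedSub.RepresentsTor G M H h := by
  obtain ⟨M, H, _, h, hM, -⟩ := (torClass G hbc).exists_represents_of_etale (isLocal_torClass hbc) fun s => by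
    obtain ⟨V, v, hv, hs, M, H, _, h, hM, hq⟩ := hloc s
    exact ⟨V, v, hv, hs, M, representableBy_of_representsTor hbc v hM, hq⟩
  exact ⟨M, H, _, h, hM⟩

include hbc in
/-- Étale local properties of the scheme of maximal tori. -/
theorem prop_of_representsTor (P : MorphismProperty Scheme.{u}) [IsZariskiLocalAtTarget P]
    [P.IsStableUnderBaseChange] [P.DescendsAlong (@Surjective ⊓ @Flat ⊓ @QuasiCompact)] {M : Over S}
    {H : Over M.left} [GrpObj H] {h : H ⟶ Red.bc M.hom G} (hM : RedSub.RepresentsTor G M H h)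
    (hloc : ∀ s : S, ∃ (V : Scheme.{u}) (v : V ⟶ S), Etale v ∧ s ∈ Set.range v ∧ ∃ (M : Over V) (H : Over M.left)
      (_ : GrpObj H) (h : H ⟶ Red.bc M.hom (Red.bc v G)), RedSub.RepresentsTor (Red.bc v G) M H h ∧
        P M.hom) : P M.hom := by
  obtain ⟨r⟩ := (torClass G hbc).representableBy hM
  refine (torClass G hbc).prop_of_representableBy P r fun s => ?_
  obtain ⟨V, v, hv, hs, M, H, _, h, hM, hP⟩ := hloc s
  exact ⟨V, v, hv, hs, M, representableBy_of_representsTor hbc v hM, hP⟩

end Groth.Agent.RedSub.H647.TorF
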