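import Groth.Agent.RedSub.H647.RepLoc
import Groth.Agent.RedSub.H647.TorF
import Groth.Agent.Sga3B.IsomPin848
import Groth.Agent.S2958

/-!
# The scheme of maximal tori of a reductive group
-/

set_option autoImplicit false
universe u

open CategoryTheory MonoidalCategory CartesianMonoidalCategory MonObj GrpObj AlgebraicGeometry Limits

namespace Groth.Agent.RedSub.H647.RepTor

open Groth.Agent.Sga3B Groth.Agent.Sga3B.RedIso Groth.Agent.RedSub.H647.SubF Groth.Agent.RedSub.H647.TorF

variable {S : Scheme.{u}} {G : Over S} [GrpObj G]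

/-- Étale-locally on the base the functor of maximal tori is represented by a smooth affine scheme which is a
smooth quotient of the group. -/
theorem exists_local (hG : Red.IsReductive G) (s : S) : ∃ (V : Scheme.{u}) (v : V ⟶ S), Etale v ∧ s ∈ Set.range v ∧
    ∃ (M : Over V) (q : Red.bc v G ⟶ M) (H : Over M.left) (_ : GrpObj H) (h : H ⟶ Red.bc M.hom (Red.bc v G)),
      RedSub.RepresentsTor (Red.bc v G) M H h ∧ IsAffineHom M.hom ∧ Smooth M.hom ∧ IsAffine M.left ∧
      Smooth q.left ∧ Surjective q.left := by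
  obtain ⟨U, f, hf, ⟨x, hx⟩, ⟨D⟩⟩ := S2958.result G hG s
  obtain ⟨_, ⟨W, hW, rfl⟩, hxW, -⟩ :=
    U.isBasis_affineOpens.exists_subset_of_mem_open (a := x) (Set.mem_univ x) isOpen_univ
  obtain ⟨y, hy⟩ := hW.range_fromSpec.ge hxW
  have hnt : Nontrivial Γ(U, W) := PrimeSpectrum.nontrivial y
  have D' : Red.SplitRed (Red.bc (hW.fromSpec ≫ f) G) := IsomPin848.splitComp f hW.fromSpec _ rfl G D
  obtain ⟨M, q, H, hH, h, hM, h1, h2, h3, h4, h5⟩ := RepLoc.exists_representsTor D'
  refine ⟨Spec Γ(U, W), hW.fromSpec ≫ f, inferInstance, ⟨y, ?_⟩, M, q, H, hH, h, hM, h1, h2, h3, h4, h5⟩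
  rw [Scheme.Hom.comp_apply, hy]
  exact hx

/-- **The functor of maximal tori of a reductive group** is representable by a smooth affine scheme which is étale-locally
a smooth quotient of the group. -/
theorem exists_representsTor (hG : Red.IsReductive G) :
    ∃ (M : Over S) (H : Over M.left) (_ : GrpObj H) (h : H ⟶ Red.bc M.hom G),
      RedSub.RepresentsTor G M H h ∧ Smooth M.hom ∧ IsAffineHom M.hom ∧
      ∀ s : S, ∃ (V : Scheme.{u}) (v : V ⟶ S), Etale v ∧ s ∈ Set.range v ∧
        ∃ q : Red.bc v G ⟶ Red.bc v M, Smooth q.left ∧ Surjective q.left := by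
  have hGa : IsAffineHom G.hom := hG.1
  have hbc : TorBc G := torBc_of_isReductive hG
  obtain ⟨M, H, hH, h, hM⟩ := TorF.exists_representsTor hbc fun s => by
    obtain ⟨V, v, hv, hs, M, q, H, hH, h, hM, h1, h2, h3, h4, h5⟩ := exists_local hG s
    refine ⟨V, v, hv, hs, M, H, hH, h, hM, fun U hU => ?_⟩
    exact RepDescent.isQuasiAffine_of_le (le_top : U ≤ ⊤) (isAffineOpen_top M.left) hU
  refine ⟨M, H, hH, h, hM, ?_, ?_, ?_⟩
  · refine prop_of_representsTor hbc @Smooth hM fun s => ?_
    obtain ⟨V, v, hv, hs, M, q, H, hH, h, hM, h1, h2, h3, h4, h5⟩ := exists_local hG s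
    exact ⟨V, v, hv, hs, M, H, hH, h, hM, h2⟩
  · refine prop_of_representsTor hbc @IsAffineHom hM fun s => ?_
    obtain ⟨V, v, hv, hs, M, q, H, hH, h, hM, h1, h2, h3, h4, h5⟩ := exists_local hG s
    exact ⟨V, v, hv, hs, M, H, hH, h, hM, h1⟩
  · intro s
    obtain ⟨V, v, hv, hs, M', q, H', hH', h', hM', h1, h2, h3, h4, h5⟩ := exists_local hG s
    obtain ⟨r⟩ := (torClass G hbc).representableBy hM
    obtain ⟨r'⟩ := representableBy_of_representsTor hbc v hM'
    let e : Red.bc v M ≅ M' := (RepDescent.repBC v r).uniqueUpToIso r'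
    refine ⟨V, v, hv, hs, q ≫ e.inv, ?_, ?_⟩
    · rw [Over.comp_left]
      infer_instance
    · rw [Over.comp_left]
      infer_instance

end Groth.Agent.RedSub.H647.RepTor
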