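import Groth.Agent.RedSub.H647.SubPt
import Groth.Agent.Sga3B.RepDescent9

/-!
# The functor of closed subgroups of a given class

`SubClass G` : a class `Q` of closed subgroups `h : H ⟶ Red.bc f G` of the base changes of `G`, invariant under
isomorphisms and stable under base change.  `subsF 𝒬 : (Over S)ᵒᵖ ⥤ Type u`, `T ↦` subgroups of `G_T` of class `Q`.

* `𝒬.IsLocal C` : recognised after pull back to a cover satisfying `C`; `isSheafFor_subsF`, `isEtSheaf_subsF`,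
  `isQSheaf_subsF` : sheaf property;
* `Represents 𝒬 M h` : `(M, h)` represents the functor (same shape as `RedSub.RepresentsTor` ...);
  `exists_represents` (from a representation of `subsF`), `representableBy` (to a representation, over any `V ⟶ S`);
* `exists_represents_of_etale` : étale descent; `exists_iso_of_represents` : uniqueness and base change.
-/

set_option autoImplicit false
universe u

open CategoryTheory CategoryTheory.Limits AlgebraicGeometry Opposite MonoidalCategory CartesianMonoidalCategory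
  MonObj GrpObj

namespace Groth.Agent.RedSub.H647.SubF

open Groth.Agent.RedSub.H647.QCov Groth.Agent.RedSub.H647.ClosedF Groth.Agent.RedSub.H647.SubPt
  Groth.Agent.Sga3B Groth.Agent.Sga3B.MT Groth.Agent.Sga3B.BcPts

variable {S : Scheme.{u}}

/-- A class of closed subgroups of the base changes of `G`, stable under base change. -/
structure SubClass (G : Over S) [GrpObj G] where
  /-- the property -/
  Q : ∀ {S' : Scheme.{u}} (f : S' ⟶ S) {H : Over S'} [GrpObj H] (_ : H ⟶ Red.bc f G), Prop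
  isMonHom : ∀ {S' : Scheme.{u}} {f : S' ⟶ S} {H : Over S'} [GrpObj H] {h : H ⟶ Red.bc f G}, Q f h → IsMonHom h
  isClosedImmersion : ∀ {S' : Scheme.{u}} {f : S' ⟶ S} {H : Over S'} [GrpObj H] {h : H ⟶ Red.bc f G},
    Q f h → IsClosedImmersion h.left
  of_iso : ∀ {S' : Scheme.{u}} {f : S' ⟶ S} {H H' : Over S'} [GrpObj H] [GrpObj H'] {h : H ⟶ Red.bc f G}
    {h' : H' ⟶ Red.bc f G} (e : Grp.mk H ≅ Grp.mk H'), e.hom.hom.hom ≫ h' = h → Q f h → Q f h'
  bc : ∀ {S' S'' : Scheme.{u}} (q : S'' ⟶ S') {f : S' ⟶ S} {H : Over S'} [GrpObj H] {h : H ⟶ Red.bc f G},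
    Q f h → Q (q ≫ f) (bcSub q h)

variable {G : Over S} [GrpObj G]

lemma isMonHom_bcSub {S' S'' : Scheme.{u}} (q : S'' ⟶ S') {f : S' ⟶ S} {H : Over S'} [GrpObj H]
    (h : H ⟶ Red.bc f G) [IsMonHom h] : IsMonHom (bcSub q h) := by
  have e : (RedIso.und (BcIso.bcCompIso q f G).symm).hom = (Over.pullbackComp q f).inv.app G := by
    have h1 := BcNat.und_bcCompIso q f G
    have h2 : (RedIso.und (BcIso.bcCompIso q f G).symm).hom ≫
        (RedIso.und (BcIso.bcCompIso q f G)).hom = 𝟙 _ := by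
      rw [BcNat.und_symm, Iso.inv_hom_id]
    rw [h1] at h2
    have h3 : (Over.pullbackComp q f).inv.app G ≫ (Over.pullbackComp q f).hom.app G = 𝟙 _ := by
      simp
    exact (cancel_mono ((Over.pullbackComp q f).hom.app G)).1 (h2.trans h3.symm)
  have h1 : IsMonHom (RedIso.und (BcIso.bcCompIso q f G).symm).hom :=
    inferInstanceAs (IsMonHom (BcIso.bcCompIso q f G).symm.hom.hom.hom)
  rw [e] at h1
  have h2 : IsMonHom ((Over.pullback q).map h) := inferInstance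
  rw [bcSub]
  exact inferInstance

namespace SubClass

variable (𝒬 : SubClass G)

lemma mono {S' : Scheme.{u}} {f : S' ⟶ S} {H : Over S'} [GrpObj H] {h : H ⟶ Red.bc f G} (hQ : 𝒬.Q f h) :
    Mono h := by
  have := 𝒬.isClosedImmersion hQ
  exact Sga3C.ClosedSub.mono_of_left h

/-- The class only depends on the points of the subgroup. -/
lemma of_pt {S' : Scheme.{u}} {f f' : S' ⟶ S} (hf : f = f') {H H' : Over S'} [GrpObj H] [GrpObj H']
    {h : H ⟶ Red.bc f G} {h' : H' ⟶ Red.bc f' G} [IsMonHom h'] [Mono h']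
    (e : ∀ (X : Scheme.{u}) (y : X ⟶ S') (γ : X ⟶ G.left), Pt h y γ ↔ Pt h' y γ) (hQ : 𝒬.Q f h) :
    𝒬.Q f' h' := by
  subst hf
  have := 𝒬.isMonHom hQ
  have := 𝒬.mono hQ
  obtain ⟨i, hi⟩ := exists_grpIso_of_pt h h' e
  exact 𝒬.of_iso i hi hQ

/-- The ideal sheaf `I` on `G_T` is the ideal of a subgroup of class `𝒬`. -/
def IsSub (T : Over S) (I : (closedF G).obj (op T)) : Prop :=
  ∃ (H : Over T.left) (_ : GrpObj H) (h : H ⟶ Red.bc T.hom G), 𝒬.Q T.hom h ∧ h.left.ker = toI I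

/-- the ideal sheaf of a subgroup -/
noncomputable def kerI {T : Over S} {H : Over T.left} (h : H ⟶ Red.bc T.hom G) : (closedF G).obj (op T) :=
  mkI G T h.left.ker

omit [GrpObj G] in
lemma mem_toI_kerI {T : Over S} {H : Over T.left} (h : H ⟶ Red.bc T.hom G) [IsClosedImmersion h.left] {X : Over S}
    (g : X ⟶ G) (a : X ⟶ T) : Mem (toI (kerI h)) g a ↔ Pt h a.left g.left := mem_ker_iff_pt h g a

omit [GrpObj G] in
/-- the ideal of a base change -/
lemma map_kerI_eq_iff {T T' : Over S} (g : T' ⟶ T) {H : Over T.left} (h : H ⟶ Red.bc T.hom G)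
    [IsClosedImmersion h.left] {H' : Over T'.left} (h' : H' ⟶ Red.bc T'.hom G) [IsClosedImmersion h'.left] :
    (closedF G).map g.op (kerI h) = kerI h' ↔
      ∀ (X : Scheme.{u}) (y : X ⟶ T'.left) (γ : X ⟶ G.left), Pt h' y γ ↔ Pt h (y ≫ g.left) γ := by
  constructor
  · intro e X y γ
    by_cases w : y ≫ T'.hom = γ ≫ G.hom
    · let X' : Over S := Over.mk (γ ≫ G.hom)
      let c : X' ⟶ G := Over.homMk γ rfl
      let a : X' ⟶ T' := Over.homMk y w
      have h1 := mem_toI_kerI h' c a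
      rw [← e, toI_map, mem_map_iff, mem_toI_kerI] at h1
      exact h1.symm
    · constructor
      · intro h1
        exact (w h1.w).elim
      · intro h1
        refine (w ?_).elim
        rw [← h1.w, Category.assoc, Over.w g]
  · intro e
    apply toI_injective
    apply ideal_ext_of_mem
    intro X c a
    rw [toI_map, mem_map_iff, mem_toI_kerI, mem_toI_kerI, e]
    rfl

omit [GrpObj G] in
lemma kerI_eq_iff {T : Over S} {H H' : Over T.left} (h : H ⟶ Red.bc T.hom G)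
    [IsClosedImmersion h.left] (h' : H' ⟶ Red.bc T.hom G) [IsClosedImmersion h'.left] :
    kerI h = kerI h' ↔ ∀ (X : Scheme.{u}) (y : X ⟶ T.left) (γ : X ⟶ G.left), Pt h y γ ↔ Pt h' y γ := by
  have h1 := map_kerI_eq_iff (𝟙 T) h' h
  rw [op_id, Functor.map_id_apply] at h1
  rw [eq_comm, h1]
  simp only [Over.id_left, Category.comp_id]

lemma isSub_kerI {T : Over S} {H : Over T.left} [GrpObj H] {h : H ⟶ Red.bc T.hom G} (hQ : 𝒬.Q T.hom h) :
    𝒬.IsSub T (kerI h) := ⟨H, inferInstance, h, hQ, rfl⟩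

lemma isSub_iff {T : Over S} {I : (closedF G).obj (op T)} : 𝒬.IsSub T I ↔
    ∃ (H : Over T.left) (_ : GrpObj H) (h : H ⟶ Red.bc T.hom G), 𝒬.Q T.hom h ∧ kerI h = I := Iff.rfl

/-- a subgroup of class `Q`, base changed along `g : T' ⟶ T`, over `T'` -/
lemma exists_bc {T T' : Over S} (g : T' ⟶ T) {H : Over T.left} [GrpObj H] {h : H ⟶ Red.bc T.hom G}
    (hQ : 𝒬.Q T.hom h) : ∃ (H' : Over T'.left) (_ : GrpObj H') (h' : H' ⟶ Red.bc T'.hom G),
      𝒬.Q T'.hom h' ∧ ∀ (X : Scheme.{u}) (y : X ⟶ T'.left) (γ : X ⟶ G.left), Pt h' y γ ↔ Pt h (y ≫ g.left) γ := by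
  have key : ∀ (f' : T'.left ⟶ S) (_ : g.left ≫ T.hom = f'), ∃ (H' : Over T'.left) (_ : GrpObj H')
      (h' : H' ⟶ Red.bc f' G), 𝒬.Q f' h' ∧ ∀ (X : Scheme.{u}) (y : X ⟶ T'.left) (γ : X ⟶ G.left),
        Pt h' y γ ↔ Pt h (y ≫ g.left) γ := by
    rintro _ rfl
    exact ⟨Red.bc g.left H, inferInstance, bcSub g.left h, 𝒬.bc g.left hQ, fun X y γ => pt_bcSub g.left h y γ⟩
  exact key _ (Over.w g)

lemma isSub_map {T T' : Over S} (g : T' ⟶ T) (I : (closedF G).obj (op T)) (hI : 𝒬.IsSub T I) :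
    𝒬.IsSub T' ((closedF G).map g.op I) := by
  obtain ⟨H, _, h, hQ, rfl⟩ := 𝒬.isSub_iff.1 hI
  obtain ⟨H', _, h', hQ', e⟩ := 𝒬.exists_bc g hQ
  have := 𝒬.isClosedImmersion hQ
  have := 𝒬.isClosedImmersion hQ'
  exact 𝒬.isSub_iff.2 ⟨H', _, h', hQ', ((map_kerI_eq_iff g h h').2 e).symm⟩

/-- The functor of subgroups of `G_T` of class `𝒬`. -/
noncomputable def subsF : (Over S)ᵒᵖ ⥤ Type u :=
  RepDescent.subF (closedF G) (fun T I => 𝒬.IsSub T I) fun g I hI => 𝒬.isSub_map g I hI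

/-- constructor for sections of `subsF` -/
noncomputable def mkS {T : Over S} (I : (closedF G).obj (op T)) (hI : 𝒬.IsSub T I) : 𝒬.subsF.obj (op T) := ⟨I, hI⟩

/-- the underlying section of `closedF` -/
noncomputable def val {T : Over S} (x : 𝒬.subsF.obj (op T)) : (closedF G).obj (op T) := x.1

lemma val_isSub {T : Over S} (x : 𝒬.subsF.obj (op T)) : 𝒬.IsSub T (𝒬.val x) := x.2

@[simp] lemma val_mkS {T : Over S} (I : (closedF G).obj (op T)) (hI : 𝒬.IsSub T I) : 𝒬.val (𝒬.mkS I hI) = I := rfl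

lemma val_injective {T : Over S} : Function.Injective (𝒬.val (T := T)) := fun _ _ h => Subtype.ext h

@[simp] lemma val_map {T T' : Over S} (g : T' ⟶ T) (x : 𝒬.subsF.obj (op T)) :
    𝒬.val (𝒬.subsF.map g.op x) = (closedF G).map g.op (𝒬.val x) := rfl

/-- the section of `subsF` given by a subgroup -/
noncomputable def ofSub {T : Over S} {H : Over T.left} [GrpObj H] {h : H ⟶ Red.bc T.hom G} (hQ : 𝒬.Q T.hom h) :
    𝒬.subsF.obj (op T) := 𝒬.mkS (kerI h) (𝒬.isSub_kerI hQ)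

@[simp] lemma val_ofSub {T : Over S} {H : Over T.left} [GrpObj H] {h : H ⟶ Red.bc T.hom G} (hQ : 𝒬.Q T.hom h) :
    𝒬.val (𝒬.ofSub hQ) = kerI h := rfl

lemma exists_ofSub {T : Over S} (x : 𝒬.subsF.obj (op T)) : ∃ (H : Over T.left) (_ : GrpObj H)
    (h : H ⟶ Red.bc T.hom G) (hQ : 𝒬.Q T.hom h), 𝒬.ofSub hQ = x := by
  obtain ⟨H, _, h, hQ, e⟩ := 𝒬.isSub_iff.1 (𝒬.val_isSub x)
  exact ⟨H, inferInstance, h, hQ, 𝒬.val_injective e⟩

lemma map_ofSub_eq_iff {T T' : Over S} (g : T' ⟶ T) {H : Over T.left} [GrpObj H] {h : H ⟶ Red.bc T.hom G}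
    (hQ : 𝒬.Q T.hom h) {H' : Over T'.left} [GrpObj H'] {h' : H' ⟶ Red.bc T'.hom G} (hQ' : 𝒬.Q T'.hom h') :
    𝒬.subsF.map g.op (𝒬.ofSub hQ) = 𝒬.ofSub hQ' ↔
      ∀ (X : Scheme.{u}) (y : X ⟶ T'.left) (γ : X ⟶ G.left), Pt h' y γ ↔ Pt h (y ≫ g.left) γ := by
  have := 𝒬.isClosedImmersion hQ
  have := 𝒬.isClosedImmersion hQ'
  rw [← map_kerI_eq_iff g h h', ← 𝒬.val_injective.eq_iff, val_map, val_ofSub, val_ofSub]

lemma ofSub_eq_iff {T : Over S} {H H' : Over T.left} [GrpObj H] [GrpObj H'] {h : H ⟶ Red.bc T.hom G}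
    {h' : H' ⟶ Red.bc T.hom G} (hQ : 𝒬.Q T.hom h) (hQ' : 𝒬.Q T.hom h') :
    𝒬.ofSub hQ = 𝒬.ofSub hQ' ↔ ∀ (X : Scheme.{u}) (y : X ⟶ T.left) (γ : X ⟶ G.left), Pt h y γ ↔ Pt h' y γ := by
  have := 𝒬.isClosedImmersion hQ
  have := 𝒬.isClosedImmersion hQ'
  rw [← kerI_eq_iff h h', ← 𝒬.val_injective.eq_iff, val_ofSub, val_ofSub]

/-! ### The sheaf property -/

/-- The class can be recognised after pull back to the covers satisfying `C`. -/
def IsLocal (C : ∀ {J : Type u} {Y : Scheme.{u}} {Y' : J → Scheme.{u}}, (∀ i, Y' i ⟶ Y) → Prop) : Prop :=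
  ∀ {S' : Scheme.{u}} (f : S' ⟶ S) {J : Type u} {S'' : J → Scheme.{u}} (q : ∀ i, S'' i ⟶ S'), C q →
    ∀ {H : Over S'} [GrpObj H] (h : H ⟶ Red.bc f G), IsMonHom h → IsClosedImmersion h.left →
      (∀ i, 𝒬.Q (q i ≫ f) (bcSub (q i) h)) → 𝒬.Q f h

/-- the locality of the predicate `IsSub` -/
theorem isSub_of_cover {C : ∀ {J : Type u} {Y : Scheme.{u}} {Y' : J → Scheme.{u}}, (∀ i, Y' i ⟶ Y) → Prop}
    (hloc : 𝒬.IsLocal C) {T : Over S} {J : Type u} (T' : J → Over S) (f : ∀ i, T' i ⟶ T)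
    (hC : C (fun i => (f i).left)) (hf : IsQCov (fun i => (f i).left)) (I : (closedF G).obj (op T))
    (hI : ∀ i, 𝒬.IsSub (T' i) ((closedF G).map (f i).op I)) : 𝒬.IsSub T I := by
  choose H gH h hQ hk using fun i => 𝒬.isSub_iff.1 (hI i)
  have hcl := fun i => 𝒬.isClosedImmersion (hQ i)
  have hmon := fun i => 𝒬.isMonHom (hQ i)
  -- pull back of the cover to a point
  have hpb : ∀ (X : Over S) (a : X ⟶ T), ∃ (X' : J → Over S) (p : ∀ i, X' i ⟶ X) (b : ∀ i, X' i ⟶ T' i),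
      IsQCov (fun i => (p i).left) ∧ ∀ i, p i ≫ a = b i ≫ f i := by
    intro X a
    refine ⟨fun i => Over.mk (pullback.snd (f i).left a.left ≫ X.hom),
      fun i => Over.homMk (pullback.snd (f i).left a.left),
      fun i => Over.homMk (pullback.fst (f i).left a.left) (by
        change pullback.fst (f i).left a.left ≫ (T' i).hom = pullback.snd (f i).left a.left ≫ X.hom
        rw [← Over.w (f i), ← Category.assoc, pullback.condition, Category.assoc, Over.w a]), ?_, fun i => ?_⟩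
    · exact IsQCov.of_isPullback (q := fun i => (f i).left) (g := a.left)
        (g' := fun i => pullback.fst (f i).left a.left)
        (q' := fun i => pullback.snd (f i).left a.left) (fun i => IsPullback.of_hasPullback _ _) hf
    · apply Over.OverMorphism.ext
      exact pullback.condition.symm
  have key : ∀ (X : Over S) (g : X ⟶ G) (i : J) (p : X ⟶ T' i), Mem (toI I) g (p ≫ f i) ↔ MemAt (h i) p g := by
    intro X g i p
    rw [memAt_iff_pt, ← mem_map_iff, ← toI_map, ← hk i, mem_toI_kerI]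
  obtain ⟨K, _, k, hk1, hk2, hk3⟩ := exists_subgroup (T := T) (toI I)
    (fun X a => by
      obtain ⟨X', p, b, hp, hpb⟩ := hpb X a
      refine Mem.of_cover p hp fun i => ?_
      rw [hpb, key, MonObj.comp_one]
      exact MemAt.one _)
    (fun X g g' a hg hg' => by
      obtain ⟨X', p, b, hp, hpb⟩ := hpb X a
      refine Mem.of_cover p hp fun i => ?_
      have h1 := hg.comp (p i)
      have h2 := hg'.comp (p i)
      rw [hpb, key] at h1 h2
      rw [hpb, key, MonObj.comp_mul]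
      exact h1.mul h2)
    (fun X g a hg => by
      obtain ⟨X', p, b, hp, hpb⟩ := hpb X a
      refine Mem.of_cover p hp fun i => ?_
      have h1 := hg.comp (p i)
      rw [hpb, key] at h1
      rw [hpb, key, GrpObj.comp_inv]
      exact h1.inv)
  refine 𝒬.isSub_iff.2 ⟨K, _, k, hloc T.hom (fun i => (f i).left) hC k hk1 hk2 fun i => ?_, toI_injective hk3⟩
  have e1 : kerI k = I := toI_injective hk3
  have e2 := (map_kerI_eq_iff (f i) k (h i)).1 (by rw [e1, hk i])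
  have := isMonHom_bcSub (f i).left k
  have : Mono (bcSub (f i).left k) := by
    have := isClosedImmersion_bcSub (f i).left k
    exact Sga3C.ClosedSub.mono_of_left _
  refine 𝒬.of_pt (Over.w (f i)).symm (fun X y γ => ?_) (hQ i)
  rw [pt_bcSub]
  exact e2 X y γ

/-- `subsF 𝒬` is an étale sheaf if the class is étale local. -/
theorem isEtSheaf_subsF (hloc : 𝒬.IsLocal (fun {J} {Y} {Y'} (q : ∀ i : J, Y' i ⟶ Y) =>
    (∀ i, Etale (q i)) ∧ ∀ y : Y, ∃ (i : J) (y' : Y' i), q i y' = y)) : RepDescent.IsEtSheaf 𝒬.subsF := by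
  refine RepDescent.isEtSheaf_subF (IsQSheaf.isEtSheaf (isQSheaf_closedF G)) _ ?_
  intro T J T' f h1 h2 I hI
  exact 𝒬.isSub_of_cover hloc T' f ⟨h1, h2⟩ (IsQCov.of_etale h1 h2) I hI

/-- `subsF 𝒬` satisfies the sheaf condition for a `QCov` family in `C` if the class is local for `C`. -/
theorem existsUnique_subsF {C : ∀ {J : Type u} {Y : Scheme.{u}} {Y' : J → Scheme.{u}}, (∀ i, Y' i ⟶ Y) → Prop}
    (hloc : 𝒬.IsLocal C) {T : Over S} {J : Type u} (T' : J → Over S) (f : ∀ i, T' i ⟶ T)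
    (hC : C (fun i => (f i).left)) (hf : IsQCov (fun i => (f i).left)) (x : ∀ i, 𝒬.subsF.obj (op (T' i)))
    (hx : ∀ (i j : J) (R : Over S) (a : R ⟶ T' i) (b : R ⟶ T' j), a ≫ f i = b ≫ f j →
        𝒬.subsF.map a.op (x i) = 𝒬.subsF.map b.op (x j)) :
    ∃! y : 𝒬.subsF.obj (op T), ∀ i, 𝒬.subsF.map (f i).op y = x i := by
  obtain ⟨I, hI, hI'⟩ := isQSheaf_closedF G T' f hf (fun i => 𝒬.val (x i)) fun i j R a b hab =>
    congrArg 𝒬.val (hx i j R a b hab)
  refine ⟨𝒬.mkS I (𝒬.isSub_of_cover hloc T' f hC hf I fun i => by rw [hI i]; exact 𝒬.val_isSub _),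
    fun i => 𝒬.val_injective (hI i), fun z hz => 𝒬.val_injective (hI' _ fun i => ?_)⟩
  exact congrArg 𝒬.val (hz i)

theorem isQSheaf_subsF (hloc : 𝒬.IsLocal (fun {_ _ _} q => IsQCov q)) : IsQSheaf 𝒬.subsF :=
  fun T' f hf x hx => 𝒬.existsUnique_subsF hloc T' f hf hf x hx

/-! ### Representability -/

/-- `(M, h)` represents the functor of subgroups of class `𝒬`. -/
def Represents (M : Over S) {H : Over M.left} [GrpObj H] (h : H ⟶ Red.bc M.hom G) : Prop :=
  𝒬.Q M.hom h ∧ ∀ (S' : Scheme.{u}) (f : S' ⟶ S) (H' : Over S') [GrpObj H'] (h' : H' ⟶ Red.bc f G), 𝒬.Q f h' →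
      ∃! g : S' ⟶ M.left, g ≫ M.hom = f ∧ RedSub.SamePoints G f h' M h g

/-- From a representation of the functor `subsF 𝒬`. -/
theorem exists_represents {M : Over S} (r : 𝒬.subsF.RepresentableBy M) :
    ∃ (H : Over M.left) (_ : GrpObj H) (h : H ⟶ Red.bc M.hom G), 𝒬.Represents M h := by
  obtain ⟨H, _, h, hQ, e⟩ := 𝒬.exists_ofSub (r.homEquiv (𝟙 M))
  refine ⟨H, inferInstance, h, hQ, ?_⟩
  intro S' f H' _ h' hQ'
  have key : ∀ g : Over.mk f ⟶ M, RedSub.SamePoints G f h' M h g.left ↔ r.homEquiv g = 𝒬.ofSub (T := Over.mk f) hQ' := by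
    intro g
    rw [samePoints_iff]
    have h1 := 𝒬.map_ofSub_eq_iff g hQ (T' := Over.mk f) (h' := h') hQ'
    rw [e, ← r.homEquiv_comp, Category.comp_id] at h1
    exact h1.symm
  refine ⟨(r.homEquiv.symm (𝒬.ofSub (T := Over.mk f) hQ')).left, ⟨Over.w _, ?_⟩, ?_⟩
  · rw [key, Equiv.apply_symm_apply]
  · rintro g ⟨hg, hg'⟩
    have h1 := (key (Over.homMk g hg)).1 hg'
    rw [← h1, Equiv.symm_apply_apply]
    rfl

section restrict

variable {V : Scheme.{u}} (v : V ⟶ S)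

lemma und_bcCompIso_symm {S' : Scheme.{u}} (q : S' ⟶ V) :
    (RedIso.und (BcIso.bcCompIso q v G).symm).hom = (Over.pullbackComp q v).inv.app G := by
  have h1 := BcNat.und_bcCompIso q v G
  have h2 : (RedIso.und (BcIso.bcCompIso q v G).symm).hom ≫
      (RedIso.und (BcIso.bcCompIso q v G)).hom = 𝟙 _ := by
    rw [BcNat.und_symm, Iso.inv_hom_id]
  rw [h1] at h2
  have h3 : (Over.pullbackComp q v).inv.app G ≫ (Over.pullbackComp q v).hom.app G = 𝟙 _ := by
    simp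
  exact (cancel_mono ((Over.pullbackComp q v).hom.app G)).1 (h2.trans h3.symm)

/-- a subgroup of a base change of `G_V`, as a subgroup of a base change of `G` -/
noncomputable def down {S' : Scheme.{u}} {q : S' ⟶ V} {H : Over S'} (h : H ⟶ Red.bc q (Red.bc v G)) :
    H ⟶ Red.bc (q ≫ v) G := h ≫ (RedIso.und (BcIso.bcCompIso q v G).symm).hom

/-- a subgroup of a base change of `G` along a morphism through `V`, as a subgroup of a base change of `G_V` -/
noncomputable def upw {S' : Scheme.{u}} {q : S' ⟶ V} {H : Over S'} (h : H ⟶ Red.bc (q ≫ v) G) :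
    H ⟶ Red.bc q (Red.bc v G) := h ≫ (RedIso.und (BcIso.bcCompIso q v G)).hom

lemma down_upw {S' : Scheme.{u}} {q : S' ⟶ V} {H : Over S'} (h : H ⟶ Red.bc (q ≫ v) G) :
    down v (upw v h) = h := by
  rw [down, upw, Category.assoc, BcNat.und_symm, Iso.hom_inv_id, Category.comp_id]

lemma pt_down {S' : Scheme.{u}} {q : S' ⟶ V} {H : Over S'} (h : H ⟶ Red.bc q (Red.bc v G)) {X : Scheme.{u}}
    (y : X ⟶ S') (γ : X ⟶ G.left) (w : γ ≫ G.hom = (y ≫ q) ≫ v) :
    Pt (down v h) y γ ↔ Pt h y (pullback.lift γ (y ≫ q) w : X ⟶ (Red.bc v G).left) := by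
  have hfst : (down v h).left ≫ pullback.fst G.hom (q ≫ v) =
      h.left ≫ pullback.fst (Red.bc v G).hom q ≫ pullback.fst G.hom v := by
    rw [down, und_bcCompIso_symm, Over.comp_left, Category.assoc]
    congr 1
    exact pullbackComp_inv_fst q G
  constructor
  · rintro ⟨p, h1, h2⟩
    refine ⟨p, h1, ?_⟩
    apply pullback.hom_ext
    · rw [pullback.lift_fst, ← h2, hfst]
      simp only [Category.assoc]
    · rw [pullback.lift_snd, ← h1, Category.assoc, Category.assoc, Category.assoc]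
      have h3 : pullback.fst (Red.bc v G).hom q ≫ pullback.snd G.hom v =
        pullback.snd (Red.bc v G).hom q ≫ q := pullback.condition
      rw [h3, ← left_snd h, Category.assoc]
  · rintro ⟨p, h1, h2⟩
    refine ⟨p, h1, ?_⟩
    rw [hfst]
    have h3 := congrArg (· ≫ pullback.fst G.hom v) h2
    simp only [Category.assoc] at h3
    rw [h3]
    exact pullback.lift_fst _ _ _

lemma pt_down_iff {S' : Scheme.{u}} {q : S' ⟶ V} {H : Over S'} (h : H ⟶ Red.bc q (Red.bc v G)) {X : Scheme.{u}}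
    (y : X ⟶ S') (γ : X ⟶ G.left) : Pt (down v h) y γ ↔
      ∃ w : γ ≫ G.hom = (y ≫ q) ≫ v, Pt h y (pullback.lift γ (y ≫ q) w : X ⟶ (Red.bc v G).left) := by
  constructor
  · intro h1
    have w : γ ≫ G.hom = (y ≫ q) ≫ v := by rw [← h1.w, Category.assoc]
    exact ⟨w, (pt_down v h y γ w).1 h1⟩
  · rintro ⟨w, h1⟩
    exact (pt_down v h y γ w).2 h1

lemma pt_iff_down {S' : Scheme.{u}} {q : S' ⟶ V} {H : Over S'} (h : H ⟶ Red.bc q (Red.bc v G)) {X : Scheme.{u}}
    (y : X ⟶ S') (γ : X ⟶ (Red.bc v G).left) : Pt h y γ ↔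
      γ ≫ pullback.snd G.hom v = y ≫ q ∧ Pt (down v h) y (γ ≫ pullback.fst G.hom v) := by
  rw [pt_down_iff]
  constructor
  · intro h1
    have w : γ ≫ pullback.snd G.hom v = y ≫ q := h1.w.symm
    have w' : (γ ≫ pullback.fst G.hom v) ≫ G.hom = (y ≫ q) ≫ v := by
      rw [Category.assoc, pullback.condition, ← w, Category.assoc]
    refine ⟨w, w', ?_⟩
    have : γ = pullback.lift (γ ≫ pullback.fst G.hom v) (y ≫ q) w' := by
      apply pullback.hom_ext
      · exact (pullback.lift_fst _ _ _).symm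
      · exact w.trans (pullback.lift_snd _ _ _).symm
    rwa [← this]
  · rintro ⟨w, w', h1⟩
    have : γ = pullback.lift (γ ≫ pullback.fst G.hom v) (y ≫ q) w' := by
      apply pullback.hom_ext
      · exact (pullback.lift_fst _ _ _).symm
      · exact w.trans (pullback.lift_snd _ _ _).symm
    rwa [← this] at h1

lemma same_iff_down {S' S₁ : Scheme.{u}} {q : S' ⟶ V} {q₁ : S₁ ⟶ V} {g : S' ⟶ S₁} (hg : g ≫ q₁ = q) {H : Over S'}
    {H₁ : Over S₁} (h : H ⟶ Red.bc q (Red.bc v G)) (h₁ : H₁ ⟶ Red.bc q₁ (Red.bc v G)) :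
    (∀ (X : Scheme.{u}) (y : X ⟶ S') (γ : X ⟶ (Red.bc v G).left), Pt h y γ ↔ Pt h₁ (y ≫ g) γ) ↔
      ∀ (X : Scheme.{u}) (y : X ⟶ S') (γ : X ⟶ G.left), Pt (down v h) y γ ↔ Pt (down v h₁) (y ≫ g) γ := by
  have e : ∀ {X : Scheme.{u}} (y : X ⟶ S'), (y ≫ g) ≫ q₁ = y ≫ q := fun y => by rw [Category.assoc, hg]
  constructor
  · intro H X y γ
    rw [pt_down_iff, pt_down_iff]
    simp only [e, H]
  · intro H X y γ
    rw [pt_iff_down, pt_iff_down, e, H]

/-- A representation over `V ⟶ S` gives a representation of the restriction of the functor. -/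
theorem representableBy_of {M : Over V} {H : Over M.left} [GrpObj H] (h : H ⟶ Red.bc M.hom (Red.bc v G))
    (hQ : 𝒬.Q (M.hom ≫ v) (down v h))
    (hrep : ∀ (S' : Scheme.{u}) (f : S' ⟶ V) (H' : Over S') [GrpObj H'] (h' : H' ⟶ Red.bc f (Red.bc v G)),
      𝒬.Q (f ≫ v) (down v h') →
        ∃! g : S' ⟶ M.left, g ≫ M.hom = f ∧ RedSub.SamePoints (Red.bc v G) f h' M h g) :
    Nonempty (((Over.map v).op ⋙ 𝒬.subsF).RepresentableBy M) := by
  let ξ : 𝒬.subsF.obj (op ((Over.map v).obj M)) := 𝒬.ofSub (T := (Over.map v).obj M) hQ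
  have key : ∀ {T : Over V} (g : T ⟶ M) {H' : Over T.left} [GrpObj H'] (h' : H' ⟶ Red.bc T.hom (Red.bc v G))
      (hQ' : 𝒬.Q (T.hom ≫ v) (down v h')), 𝒬.subsF.map ((Over.map v).map g).op ξ =
        𝒬.ofSub (T := (Over.map v).obj T) hQ' ↔ RedSub.SamePoints (Red.bc v G) T.hom h' M h g.left := by
    intro T g H' _ h' hQ'
    rw [samePoints_iff, same_iff_down v (Over.w g) h' h]
    exact 𝒬.map_ofSub_eq_iff (T := (Over.map v).obj M) (T' := (Over.map v).obj T) ((Over.map v).map g) hQ hQ'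
  have key2 : ∀ {T : Over V} (x : 𝒬.subsF.obj (op ((Over.map v).obj T))), ∃ (H' : Over T.left) (_ : GrpObj H')
      (h' : H' ⟶ Red.bc T.hom (Red.bc v G)) (hQ' : 𝒬.Q (T.hom ≫ v) (down v h')),
        𝒬.ofSub (T := (Over.map v).obj T) hQ' = x := by
    intro T x
    obtain ⟨H', _, h'', hQ'', e⟩ := 𝒬.exists_ofSub x
    have e2 : down v (upw v (q := T.hom) h'') = h'' := down_upw v h''
    refine ⟨H', inferInstance, upw v (q := T.hom) h'', ?_, ?_⟩
    · rw [e2]
      exact hQ''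
    · rw [← e]
      congr 1
  refine ⟨⟨fun {T} => Equiv.ofBijective (fun g => 𝒬.subsF.map ((Over.map v).map g).op ξ) ⟨?_, ?_⟩, ?_⟩⟩
  · intro g g' hgg
    dsimp only at hgg
    obtain ⟨H', _, h', hQ', e⟩ := key2 (𝒬.subsF.map ((Over.map v).map g).op ξ)
    obtain ⟨g₀, -, hg₀⟩ := hrep T.left T.hom H' h' hQ'
    have h1 := hg₀ g.left ⟨Over.w g, (key g h' hQ').1 e.symm⟩
    have h2 := hg₀ g'.left ⟨Over.w g', (key g' h' hQ').1 (hgg.symm.trans e.symm)⟩
    exact Over.OverMorphism.ext (h1.trans h2.symm)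
  · intro x
    obtain ⟨H', _, h', hQ', e⟩ := key2 x
    obtain ⟨g₀, ⟨h1, h2⟩, -⟩ := hrep T.left T.hom H' h' hQ'
    exact ⟨Over.homMk g₀ h1, ((key (Over.homMk g₀ h1) h' hQ').2 h2).trans e⟩
  · intro X X' f g
    change 𝒬.subsF.map ((Over.map v).map (f ≫ g)).op ξ =
      𝒬.subsF.map ((Over.map v).map f).op (𝒬.subsF.map ((Over.map v).map g).op ξ)
    rw [Functor.map_comp, op_comp, Functor.map_comp_apply]

end restrict

/-- `(M, h)` represents the functor of subgroups, hence `M` represents `subsF 𝒬`. -/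
theorem representableBy {M : Over S} {H : Over M.left} [GrpObj H] {h : H ⟶ Red.bc M.hom G}
    (hM : 𝒬.Represents M h) : Nonempty (𝒬.subsF.RepresentableBy M) := by
  have key : ∀ {T : Over S} (g : T ⟶ M) {H' : Over T.left} [GrpObj H'] (h' : H' ⟶ Red.bc T.hom G)
      (hQ' : 𝒬.Q T.hom h'), 𝒬.subsF.map g.op (𝒬.ofSub hM.1) =
        𝒬.ofSub hQ' ↔ RedSub.SamePoints G T.hom h' M h g.left := by
    intro T g H' _ h' hQ'
    rw [samePoints_iff]
    exact 𝒬.map_ofSub_eq_iff g hM.1 hQ'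
  refine ⟨⟨fun {T} => Equiv.ofBijective (fun g => 𝒬.subsF.map g.op (𝒬.ofSub hM.1)) ⟨?_, ?_⟩, ?_⟩⟩
  · intro g g' hgg
    dsimp only at hgg
    obtain ⟨H', _, h', hQ', e⟩ := 𝒬.exists_ofSub (𝒬.subsF.map g.op (𝒬.ofSub hM.1))
    obtain ⟨g₀, -, hg₀⟩ := hM.2 T.left T.hom H' h' hQ'
    have h1 := hg₀ g.left ⟨Over.w g, (key g h' hQ').1 e.symm⟩
    have h2 := hg₀ g'.left ⟨Over.w g', (key g' h' hQ').1 (hgg.symm.trans e.symm)⟩
    exact Over.OverMorphism.ext (h1.trans h2.symm)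
  · intro x
    obtain ⟨H', _, h', hQ', e⟩ := 𝒬.exists_ofSub x
    obtain ⟨g₀, ⟨h1, h2⟩, -⟩ := hM.2 T.left T.hom H' h' hQ'
    exact ⟨Over.homMk g₀ h1, ((key (Over.homMk g₀ h1) h' hQ').2 h2).trans e⟩
  · intro X X' f g
    change 𝒬.subsF.map (f ≫ g).op _ = 𝒬.subsF.map f.op (𝒬.subsF.map g.op _)
    rw [op_comp, Functor.map_comp_apply]

/-- The étale covers, for `IsLocal`. -/
def EtCov {J : Type u} {Y : Scheme.{u}} {Y' : J → Scheme.{u}} (q : ∀ i, Y' i ⟶ Y) : Prop :=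
  (∀ i, Etale (q i)) ∧ ∀ y : Y, ∃ (i : J) (y' : Y' i), q i y' = y

/-- **Étale descent of representability** of the functor of subgroups. -/
theorem exists_represents_of_etale (hloc : 𝒬.IsLocal (fun {_ _ _} q => EtCov q))
    (h : ∀ s : S, ∃ (V : Scheme.{u}) (v : V ⟶ S), Etale v ∧ s ∈ Set.range v ∧ ∃ (A' : Over V),
      Nonempty (((Over.map v).op ⋙ 𝒬.subsF).RepresentableBy A') ∧
      ∀ U : A'.left.Opens, IsCompact (U : Set A'.left) → (U : Scheme.{u}).IsQuasiAffine) :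
    ∃ (M : Over S) (H : Over M.left) (_ : GrpObj H) (h : H ⟶ Red.bc M.hom G), 𝒬.Represents M h ∧
      Nonempty (𝒬.subsF.RepresentableBy M) := by
  obtain ⟨M, ⟨r⟩⟩ := RepDescent.exists_representableBy_of_etale (𝒬.isEtSheaf_subsF hloc) h
  obtain ⟨H, _, h, hM⟩ := 𝒬.exists_represents r
  exact ⟨M, H, _, h, hM, ⟨r⟩⟩

/-- Étale local properties of the representing scheme. -/
theorem prop_of_representableBy (P : MorphismProperty Scheme.{u}) [IsZariskiLocalAtTarget P]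
    [P.IsStableUnderBaseChange] [P.DescendsAlong (@Surjective ⊓ @Flat ⊓ @QuasiCompact)] {M : Over S}
    (r : 𝒬.subsF.RepresentableBy M)
    (h : ∀ s : S, ∃ (V : Scheme.{u}) (v : V ⟶ S), Etale v ∧ s ∈ Set.range v ∧ ∃ (A' : Over V),
      Nonempty (((Over.map v).op ⋙ 𝒬.subsF).RepresentableBy A') ∧ P A'.hom) : P M.hom := by
  refine RepDescent.of_etale_cover M.hom fun s => ?_
  obtain ⟨V, v, h1, h2, A', ⟨r'⟩, h3⟩ := h s
  refine ⟨V, v, h1, h2, ?_⟩
  let e := (RepDescent.repBC v r).uniqueUpToIso r'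
  have h4 : (Red.bc v M).hom = e.hom.left ≫ A'.hom := (Over.w e.hom).symm
  change P (Red.bc v M).hom
  rw [h4]
  exact (P.cancel_left_of_respectsIso e.hom.left A'.hom).2 h3

end SubClass

end Groth.Agent.RedSub.H647.SubF
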