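import Groth.Agent.RedSub.H647.ClosedF
import Groth.Agent.Sga3B.MT.MemOps
import Groth.Agent.Sga3C.ClosedSub
import Groth.Prelude.Def_RedSub

/-!
# Points of subgroups of base changes of `G`; closed subschemes of `G_T` and their points

For `h : H ⟶ Red.bc f G`, `f : S' ⟶ S`: `Pt h y γ` says that the point `(y, γ)` (`y : X ⟶ S'`, `γ : X ⟶ G.left`) of
`G ×_S S'` factors through `h`.

* `samePoints_iff` : `RedSub.SamePoints` in terms of `Pt`;
* `memAt_iff_pt` : relation with `MT.MemAt`; `pt_bcSub` : base change;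
* `mem_ker_iff_pt` : relation with ideal sheaves on `G ⊗ T`;
* `exists_subgroup` : a closed subscheme of `G ⊗ T` whose points are closed under the group law is the kernel of
  a closed subgroup.
-/

set_option autoImplicit false
universe u

open CategoryTheory CategoryTheory.Limits AlgebraicGeometry Opposite MonoidalCategory CartesianMonoidalCategory
  MonObj GrpObj

namespace Groth.Agent.RedSub.H647.SubPt

open Groth.Agent.RedSub.H647.QCov Groth.Agent.RedSub.H647.ClosedF Groth.Agent.Sga3B Groth.Agent.Sga3B.MT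
  Groth.Agent.Sga3B.BcPts

variable {S S' S'' : Scheme.{u}} {f : S' ⟶ S} {G : Over S} {H H' : Over S'}

/-- the point `(y, γ)` of `G ×_S S'` factors through `h` -/
def Pt {S S' : Scheme.{u}} {f : S' ⟶ S} {G : Over S} {H : Over S'} (h : H ⟶ Red.bc f G) {X : Scheme.{u}}
    (y : X ⟶ S') (γ : X ⟶ G.left) : Prop :=
  ∃ p : X ⟶ H.left, p ≫ H.hom = y ∧ p ≫ h.left ≫ pullback.fst G.hom f = γ

lemma left_snd (h : H ⟶ Red.bc f G) : h.left ≫ pullback.snd G.hom f = H.hom := Over.w h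

lemma Pt.w {h : H ⟶ Red.bc f G} {X : Scheme.{u}} {y : X ⟶ S'} {γ : X ⟶ G.left} (H1 : Pt h y γ) :
    y ≫ f = γ ≫ G.hom := by
  obtain ⟨p, rfl, rfl⟩ := H1
  rw [Category.assoc, Category.assoc, Category.assoc, pullback.condition, ← Category.assoc h.left, left_snd]

lemma Pt.comp {h : H ⟶ Red.bc f G} {X X' : Scheme.{u}} {y : X ⟶ S'} {γ : X ⟶ G.left} (H1 : Pt h y γ)
    (x : X' ⟶ X) : Pt h (x ≫ y) (x ≫ γ) := by
  obtain ⟨p, rfl, rfl⟩ := H1
  exact ⟨x ≫ p, by simp, by simp⟩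

lemma pt_self (h : H ⟶ Red.bc f G) : Pt h H.hom (h.left ≫ pullback.fst G.hom f) :=
  ⟨𝟙 _, Category.id_comp _, Category.id_comp _⟩

lemma pt_iff_lift (h : H ⟶ Red.bc f G) {X : Scheme.{u}} (y : X ⟶ S') (γ : X ⟶ G.left)
    (w : γ ≫ G.hom = y ≫ f) : Pt h y γ ↔ ∃ p : X ⟶ H.left, p ≫ h.left = pullback.lift γ y w := by
  constructor
  · rintro ⟨p, h1, h2⟩
    refine ⟨p, pullback.hom_ext ?_ ?_⟩
    · rw [pullback.lift_fst, Category.assoc, h2]
    · rw [pullback.lift_snd, Category.assoc]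
      exact (congrArg (p ≫ ·) (left_snd h)).trans h1
  · rintro ⟨p, hp⟩
    refine ⟨p, ?_, ?_⟩
    · rw [← left_snd h, ← Category.assoc, hp]
      exact pullback.lift_snd _ _ _
    · rw [← Category.assoc, hp]
      exact pullback.lift_fst _ _ _

lemma samePoints_iff (h' : H' ⟶ Red.bc f G) (M : Over S) {K : Over M.left} (h : K ⟶ Red.bc M.hom G)
    (g : S' ⟶ M.left) : RedSub.SamePoints G f h' M h g ↔
      ∀ (X : Scheme.{u}) (y : X ⟶ S') (γ : X ⟶ G.left), Pt h' y γ ↔ Pt h (y ≫ g) γ := Iff.rfl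

lemma memAt_iff_pt (h : H ⟶ Red.bc f G) {X : Over S} (a : X ⟶ Over.mk f) (g : X ⟶ G) :
    MemAt h a g ↔ Pt h a.left g.left := memAt_iff' h a g

/-- base change -/
lemma pt_bcSub (q : S'' ⟶ S') (h : H ⟶ Red.bc f G) {X : Scheme.{u}} (y : X ⟶ S'') (γ : X ⟶ G.left) :
    Pt (bcSub q h) y γ ↔ Pt h (y ≫ q) γ := by
  constructor
  · rintro ⟨x, rfl, h2⟩
    refine ⟨x ≫ pullback.fst H.hom q, ?_, ?_⟩
    · rw [Category.assoc, pullback.condition, ← Category.assoc]
      rfl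
    · rw [Category.assoc, ← bcSub_fst]
      exact h2
  · rintro ⟨x, h1, h2⟩
    refine ⟨pullback.lift x y h1, pullback.lift_snd _ _ _, ?_⟩
    rw [bcSub_fst, ← Category.assoc]
    exact (congrArg (· ≫ h.left ≫ pullback.fst G.hom f) (pullback.lift_fst _ _ _)).trans h2

/-- Monomorphisms with the same points are isomorphic. -/
lemma exists_iso_of_pt (h : H ⟶ Red.bc f G) (h' : H' ⟶ Red.bc f G) [Mono h] [Mono h']
    (e : ∀ (X : Scheme.{u}) (y : X ⟶ S') (γ : X ⟶ G.left), Pt h y γ ↔ Pt h' y γ) :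
    ∃ i : H ≅ H', i.hom ≫ h' = h := by
  have key : ∀ {H H' : Over S'} (h : H ⟶ Red.bc f G) (h' : H' ⟶ Red.bc f G),
      (∀ (X : Scheme.{u}) (y : X ⟶ S') (γ : X ⟶ G.left), Pt h y γ → Pt h' y γ) → ∃ u : H ⟶ H', u ≫ h' = h := by
    intro H H' h h' hh
    obtain ⟨p, h1, h2⟩ := hh _ _ _ (pt_self h)
    refine ⟨Over.homMk p h1, ?_⟩
    apply Over.OverMorphism.ext
    apply pullback.hom_ext
    · exact (Category.assoc _ _ _).trans h2
    · refine (Category.assoc _ _ _).trans ((congrArg (p ≫ ·) (left_snd h')).trans (h1.trans (left_snd h).symm))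
  obtain ⟨u, hu⟩ := key h h' fun X y γ => (e X y γ).1
  obtain ⟨v, hv⟩ := key h' h fun X y γ => (e X y γ).2
  refine ⟨⟨u, v, ?_, ?_⟩, hu⟩
  · rw [← cancel_mono h, Category.assoc, hv, hu, Category.id_comp]
  · rw [← cancel_mono h', Category.assoc, hu, hv, Category.id_comp]

/-- Subgroups with the same points are isomorphic as groups. -/
lemma exists_grpIso_of_pt [GrpObj G] [GrpObj H] [GrpObj H'] (h : H ⟶ Red.bc f G) (h' : H' ⟶ Red.bc f G)
    [IsMonHom h] [IsMonHom h'] [Mono h] [Mono h']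
    (e : ∀ (X : Scheme.{u}) (y : X ⟶ S') (γ : X ⟶ G.left), Pt h y γ ↔ Pt h' y γ) :
    ∃ i : Grp.mk H ≅ Grp.mk H', i.hom.hom.hom ≫ h' = h := by
  obtain ⟨i, hi⟩ := exists_iso_of_pt h h' e
  have : IsMonHom i.hom := Pts.isMonHom_of_points i.hom fun X x y => by
    rw [← cancel_mono h']
    simp only [Category.assoc, hi, MonObj.mul_comp]
  exact ⟨Grp.mkIso' i, hi⟩

section ideal

variable {T : Over S}

/-- Points of a closed subscheme of `G_T` given by the kernel of `h`. -/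
lemma mem_ker_iff_pt {K : Over T.left} (h : K ⟶ Red.bc T.hom G) [IsClosedImmersion h.left] {X : Over S}
    (g : X ⟶ G) (a : X ⟶ T) :
    Mem (G := G) (T := T) h.left.ker g a ↔ Pt h a.left g.left := by
  refine (mem_iff_ker (G := G) (T := T) h.left g a).trans ?_
  rw [pt_iff_lift h a.left g.left ((Over.w g).trans (Over.w a).symm)]
  rfl

/-- A closed subscheme of `G_T` whose points are closed under the group law is a subgroup. -/
theorem exists_subgroup [GrpObj G] (I : ((G ⊗ T : Over S).left).IdealSheafData)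
    (hone : ∀ (X : Over S) (a : X ⟶ T), Mem I (1 : X ⟶ G) a)
    (hmul : ∀ (X : Over S) (g g' : X ⟶ G) (a : X ⟶ T), Mem I g a → Mem I g' a → Mem I (g * g') a)
    (hinv : ∀ (X : Over S) (g : X ⟶ G) (a : X ⟶ T), Mem I g a → Mem I g⁻¹ a) :
    ∃ (K : Over T.left) (_ : GrpObj K) (h : K ⟶ Red.bc T.hom G), IsMonHom h ∧ IsClosedImmersion h.left ∧
      h.left.ker = I := by
  let K : Over T.left := Sga3C.ClosedSub.sub (Red.bc T.hom G) I
  let p : K ⟶ Red.bc T.hom G := Sga3C.ClosedSub.subι (Red.bc T.hom G) I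
  have hp : IsClosedImmersion p.left := inferInstanceAs (IsClosedImmersion (Sga3C.ClosedSub.subι _ I).left)
  have hker : p.left.ker = I := Sga3C.ClosedSub.ker_subι _ _
  have hm : Mono p := Sga3C.ClosedSub.mono_of_left p
  have key : ∀ {X : Over T.left} (x : X ⟶ Red.bc T.hom G),
      (∃ z : X ⟶ K, z ≫ p = x) ↔ Mem I ((bcEquiv T.hom X G).symm x) (MemAt.strHom T.hom X) := by
    intro X x
    rw [← MemAt.iff_of_over p X x, memAt_iff_pt, ← hker]
    exact (mem_ker_iff_pt (T := T) p ((bcEquiv T.hom X G).symm x) (MemAt.strHom T.hom X)).symm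
  have hmulE : ∀ {X : Over T.left} (x y : X ⟶ Red.bc T.hom G),
      (bcEquiv T.hom X G).symm (x * y) = (bcEquiv T.hom X G).symm x * (bcEquiv T.hom X G).symm y := by
    intro X x y
    rw [Equiv.symm_apply_eq, bcEquiv_mul, Equiv.apply_symm_apply, Equiv.apply_symm_apply]
  have honeE : ∀ {X : Over T.left}, (bcEquiv T.hom X G).symm (1 : X ⟶ Red.bc T.hom G) = 1 := by
    intro X
    rw [Equiv.symm_apply_eq, bcEquiv_one]
  have hinvE : ∀ {X : Over T.left} (x : X ⟶ Red.bc T.hom G),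
      (bcEquiv T.hom X G).symm x⁻¹ = ((bcEquiv T.hom X G).symm x)⁻¹ := by
    intro X x
    rw [eq_inv_iff_mul_eq_one, ← hmulE, inv_mul_cancel, honeE]
  obtain ⟨hG, hmon⟩ := Sga3C.ClosedSub.exists_grpObj_of_mono p
    ((key _).2 (by
      have h1 : η[Red.bc T.hom G] = (1 : 𝟙_ (Over T.left) ⟶ Red.bc T.hom G) := one_eq_one _
      rw [h1, honeE]
      exact hone _ _))
    ((key _).2 (by
      have h1 : (p ⊗ₘ p) ≫ μ[Red.bc T.hom G] = (fst K K ≫ p) * (snd K K ≫ p) := by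
        rw [Hom.mul_def]
        congr 1
      rw [h1, hmulE]
      exact hmul _ _ _ _ ((key _).1 ⟨_, rfl⟩) ((key _).1 ⟨_, rfl⟩)))
    ((key _).2 (by
      have h1 : p ≫ ι[Red.bc T.hom G] = p⁻¹ := rfl
      rw [h1, hinvE]
      exact hinv _ _ _ ((key _).1 ⟨𝟙 _, by simp⟩)))
  exact ⟨K, hG, p, hmon, hp, hker⟩

end ideal

end Groth.Agent.RedSub.H647.SubPt
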