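import Groth.Agent.Sga3B.IsomHb885
import Groth.Agent.Sga3B.ChartGood
import Groth.Agent.Sga3B.SplitRedField415
import Groth.Agent.Sga3B.IsomLocal
import Groth.Agent.Sga3B.BorLoc613
import Groth.Agent.Sga3B.TorClosed636

/-!
# Points normalising the maximal torus of a split reductive group

`D : Red.SplitRed G`, `n : V ⟶ G` normalising the torus of `D`.  Locally on `V` the point `n` is a product of a
representative of an element of the Weyl group and of a point of the torus.
-/

set_option autoImplicit false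
universe u

open CategoryTheory MonoidalCategory CartesianMonoidalCategory MonObj GrpObj AlgebraicGeometry Limits

namespace Groth.Agent.RedSub.H647.WeylLoc

open Groth.Agent.Sga3B Groth.Agent.Sga3B.DSPts Groth.Agent.Sga3B.GaPts Groth.Agent.Sga3B.IsoFam
  Groth.Agent.Sga3B.IsomCore Groth.Agent.Sga3B.IsomDefs Groth.Agent.Sga3B.IsomLocal
  Groth.Agent.Sga3B.InfConjFam Groth.Agent.Sga3B.DSRigid

variable {S : Scheme.{u}} {G : Over S} [GrpObj G] (D : Red.SplitRed G)

/-- An element of `G` inducing an endomorphism `φ` of the character lattice of the torus: `φ` is in the Weyl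
group. -/
theorem exists_weyl {V : Over S} (hV : Nonempty V.left) (g : V ⟶ G) (φ : D.M →+ D.M)
    (H : ∀ (X : Over S) (x : X ⟶ V) (t : X ⟶ Red.DS S D.M),
      (x ≫ g) * dT D t * (x ≫ g)⁻¹ = dT D (t ≫ Red.DSmap S φ)) :
    ∃ w ∈ D.P.weylGroup, ∀ m, w.weightMap m = φ m := by
  obtain ⟨p⟩ := hV
  have : Nonempty S := ⟨V.hom p⟩
  have hred : D.P.IsReduced := SplitReduced415.isReduced D
  obtain ⟨b⟩ := BaseZ.nonempty_base D.P
  let ψ₀ : G ⊗ V ⟶ G := fst G V ≫ (Iso.refl (Grp.mk G)).hom.hom.hom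
  have hψ₀ : ∀ {X : Over S} (y : X ⟶ G) (x : X ⟶ V), lift y x ≫ ψ₀ = y := by
    intro X y x
    change lift y x ≫ fst G V ≫ 𝟙 G = y
    rw [Category.comp_id, lift_fst]
  have hψ : AutFam.IsIsoFamily G G (conjFam g ψ₀) :=
    isIsoFamily_conjFam g (isIsoFamily_const (Iso.refl (Grp.mk G)))
  have hθ : TorPart D D φ (conjFam g ψ₀) := by
    intro X x t
    rw [lift_conjFam, hψ₀]
    exact H X x t
  obtain ⟨e₀, he₀⟩ := ChartFam.hbStmt D D V ⟨p⟩ _ hψ φ hθ
  obtain ⟨w, hw, hm⟩ := IsomComb.exists_match e₀ b b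
  obtain ⟨n, hn⟩ := exists_acts D w hw
  have h1 := TorPart.conj_acts hθ hn
  rw [conjFam_conjFam] at h1
  obtain ⟨lam, hlam, hlam'⟩ := IsomU.exists_height b
  let K : Type u := AlgebraicClosure (V.left.residueField p)
  let s : Spec (CommRingCat.of K) ⟶ V.left := Red.geomPt p
  let x : Over.mk (s ≫ V.hom) ⟶ V := Over.homMk s
  have h2 := SplitCmp588.h0Stmt D K (s ≫ V.hom) (x ≫ ((toUnit V ≫ n) * g))
    (φ.comp w.weightMap.toAddMonoidHom) lam hlam (hlam' _ (fun a ha => ⟨e₀.indexEquiv (w • a), (hm a).1 ha, by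
      change φ (w.weightMap (D.P.root a)) = _
      rw [← he₀]
      have e1 : w.weightMap (D.P.root a) = D.P.root (w • a) := RootPairing.Hom.root_weightMap_apply _ _ _ _
      rw [e1]
      exact RootPairing.Hom.root_weightMap_apply _ _ _ _⟩)) (by
      intro X' x' t
      have h3 := h1 X' (x' ≫ x) t
      rw [lift_conjFam, hψ₀] at h3
      rw [Category.assoc] at h3
      exact h3)
  refine ⟨w⁻¹, D.P.weylGroup.inv_mem hw, fun m => ?_⟩
  have h3 : ∀ m, w.weightMap ((w⁻¹).weightMap m) = m := by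
    intro m
    have h4 : (w * w⁻¹).weightMap m = m := by rw [mul_inv_cancel]; rfl
    exact h4
  have h5 := h2 ((w⁻¹).weightMap m)
  change φ (w.weightMap ((w⁻¹).weightMap m)) = _ at h5
  rw [h3] at h5
  exact h5.symm

/-- the point `n` of `G` with values in `V` normalises the torus -/
def Normalises {V : Over S} (n : V ⟶ G) : Prop :=
  ∀ (X : Over S) (x : X ⟶ V) (t : X ⟶ Red.DS S D.M), ∃ t' : X ⟶ Red.DS S D.M,
    (x ≫ n) * dT D t * (x ≫ n)⁻¹ = dT D t'

lemma Normalises.comp {V V' : Over S} {n : V ⟶ G} (h : Normalises D n) (v : V' ⟶ V) : Normalises D (v ≫ n) := by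
  intro X x t
  rw [← Category.assoc]
  exact h X (x ≫ v) t

/-- the point `n` of `G` with values in `V` acts on the torus through `φ` -/
def ActsBy {V : Over S} (n : V ⟶ G) (φ : D.M →+ D.M) : Prop :=
  ∀ (X : Over S) (x : X ⟶ V) (t : X ⟶ Red.DS S D.M),
    (x ≫ n) * dT D t * (x ≫ n)⁻¹ = dT D (t ≫ Red.DSmap S φ)

variable {D}

lemma ActsBy.comp {V V' : Over S} {n : V ⟶ G} {φ : D.M →+ D.M} (h : ActsBy D n φ) (v : V' ⟶ V) :
    ActsBy D (v ≫ n) φ := by
  intro X x t
  rw [← Category.assoc]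
  exact h X (x ≫ v) t

lemma actsBy_of_acts {n : 𝟙_ (Over S) ⟶ G} {φ : D.M →+ D.M} (h : Acts D n φ) (V : Over S) :
    ActsBy D (toUnit V ≫ n) φ := by
  intro X x t
  rw [← Category.assoc]
  have : x ≫ toUnit V = toUnit X := toUnit_unique _ _
  rw [this]
  exact h X t

lemma ActsBy.mul {V : Over S} {n n' : V ⟶ G} {φ φ' : D.M →+ D.M} (h : ActsBy D n φ) (h' : ActsBy D n' φ') :
    ActsBy D (n * n') (φ'.comp φ) := by
  intro X x t
  rw [MonObj.comp_mul]
  have h1 := h' X x t
  have h2 := h X x (t ≫ Red.DSmap S φ')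
  rw [DSmap_comp] at h2
  rw [← h2, ← h1]
  group

lemma ActsBy.inv {V : Over S} {n : V ⟶ G} {φ φ' : D.M →+ D.M} (h : ActsBy D n φ)
    (h' : φ'.comp φ = AddMonoidHom.id _) : ActsBy D n⁻¹ φ' := by
  intro X x t
  have h1 := h X x (t ≫ Red.DSmap S φ')
  rw [DSmap_comp, h', DSmap_id] at h1
  rw [GrpObj.comp_inv, _root_.inv_inv, ← h1]
  group

lemma ActsBy.normalises {V : Over S} {n : V ⟶ G} {φ : D.M →+ D.M} (h : ActsBy D n φ) : Normalises D n :=
  fun X x t => ⟨_, h X x t⟩

/-- A point acting trivially on the torus is in the torus. -/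
theorem exists_torus_of_actsBy_id {V : Over S} {n : V ⟶ G} (h : ActsBy D n (AddMonoidHom.id _)) :
    ∃ t : V ⟶ Red.DS S D.M, n = dT D t := by
  have h1 := (TorClosed636.isCentralizerOf_self D.reductive D.maximalTorus).2.2 V n
  obtain ⟨t, ht⟩ := h1.2 (by
    intro X x t
    have h2 := h X x (t ≫ D.split.hom.hom.hom)
    rw [DSmap_id, dT_hom, mul_inv_eq_iff_eq_mul] at h2
    exact h2)
  exact ⟨t ≫ D.split.hom.hom.hom, by rw [dT_hom, ht]⟩

lemma actsBy_dT {V : Over S} (t : V ⟶ Red.DS S D.M) : ActsBy D (dT D t) (AddMonoidHom.id _) := by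
  intro X x s
  rw [DSmap_id, comp_dT, ← dT_mul, mul_inv_eq_iff_eq_mul, ← dT_mul]
  congr 1
  apply (dsEquiv X D.M).symm.injective
  change dsChar _ = dsChar _
  rw [dsChar_mul, dsChar_mul, mul_comm]

/-- Two points acting in the same way on the torus differ by a point of the torus. -/
theorem exists_torus {V : Over S} {n n' : V ⟶ G} {φ φ' : D.M →+ D.M} (h : ActsBy D n φ) (h' : ActsBy D n' φ)
    (hφ : φ'.comp φ = AddMonoidHom.id _) (hφ' : φ.comp φ' = AddMonoidHom.id _) :
    ∃ t : V ⟶ Red.DS S D.M, n' = n * dT D t := by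
  obtain ⟨t, ht⟩ := exists_torus_of_actsBy_id (n := n⁻¹ * n') (by
    have := (h.inv hφ).mul h'
    rwa [hφ'] at this)
  exact ⟨t, by rw [← ht]; group⟩

/-- The endomorphism through which a point acts is determined if the base is not empty. -/
theorem actsBy_unique {V : Over S} (hV : Nonempty V.left) {n : V ⟶ G} {φ φ' : D.M →+ D.M} (h : ActsBy D n φ)
    (h' : ActsBy D n φ') : φ = φ' := by
  obtain ⟨p⟩ := hV
  refine eq_of_DSmap_family p fun X x t => ?_
  exact dT_injective D ((h X x t).symm.trans (h' X x t))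
where
  eq_of_DSmap_family {V : Over S} {φ φ' : D.M →+ D.M} (p : V.left)
      (h : ∀ (X : Over S) (_ : X ⟶ V) (t : X ⟶ Red.DS S D.M), t ≫ Red.DSmap S φ = t ≫ Red.DSmap S φ') : φ = φ' := by
    refine BorLoc613.eq_of_DSmap (S := V.left) φ φ' ⊤ (s := p) trivial fun T q _ => ?_
    have h1 := h ((Over.map V.hom).obj T) (Over.homMk T.hom) (tr V.hom q)
    rw [← tr_DSmap, ← tr_DSmap] at h1
    have h2 := congrArg (untr V.hom) h1
    have key : ∀ {N : Type} [AddCommGroup N] (q : T ⟶ Red.DS V.left N), untr V.hom (tr V.hom q) = q := by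
      intro N _ q
      apply (dsEquiv T N).symm.injective
      change dsChar _ = dsChar _
      rw [dsChar_untr, dsChar_tr]
    rwa [key, key] at h2

lemma untr_tr {S S' : Scheme.{u}} (x : S' ⟶ S) {N : Type} [AddCommGroup N] {T : Over S'} (q : T ⟶ Red.DS S' N) :
    untr x (tr x q) = q := by
  apply (dsEquiv T N).symm.injective
  change dsChar _ = dsChar _
  rw [dsChar_untr, dsChar_tr]

/-- the structure morphism of `T` over `V`, over `S` -/
noncomputable def str (V : Over S) (T : Over V.left) : (Over.map V.hom).obj T ⟶ V := Over.homMk T.hom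

lemma map_str (V : Over S) {T T' : Over V.left} (q : T' ⟶ T) : (Over.map V.hom).map q ≫ str V T = str V T' := by
  apply Over.OverMorphism.ext
  exact Over.w q

/-- **Points normalising the torus act locally through the Weyl group.** -/
theorem exists_nhd {V : Over S} {n : V ⟶ G} (hn : Normalises D n) (v : V.left) :
    ∃ U : V.left.Opens, v ∈ U ∧ ∃ w ∈ D.P.weylGroup, ∀ (X : Over S) (x : X ⟶ V),
      Set.range x.left ⊆ (U : Set V.left) → ActsBy D (x ≫ n) w.weightMap.toAddMonoidHom := by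
  obtain ⟨t₀, ht₀⟩ := hn _ (str V _) (tr V.hom (𝟙 (Red.DS V.left D.M)))
  let f : Red.DS V.left D.M ⟶ Red.DS V.left D.M := untr V.hom t₀
  have key : ∀ {T : Over V.left} (q : T ⟶ Red.DS V.left D.M),
      (str V T ≫ n) * dT D (tr V.hom q) * (str V T ≫ n)⁻¹ = dT D (tr V.hom (q ≫ f)) := by
    intro T q
    have h1 := congrArg ((Over.map V.hom).map q ≫ ·) ht₀
    simp only [MonObj.comp_mul, GrpObj.comp_inv, comp_dT] at h1
    rw [← Category.assoc, map_str, ← tr_comp, Category.comp_id] at h1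
    rw [h1, tr_comp, tr_untr]
  have hmul : ∀ (T : Over V.left) (q q' : T ⟶ Red.DS V.left D.M), (q * q') ≫ f = (q ≫ f) * (q' ≫ f) := by
    intro T q q'
    rw [← untr_tr V.hom ((q * q') ≫ f), ← untr_tr V.hom ((q ≫ f) * (q' ≫ f))]
    congr 1
    apply dT_injective D
    rw [← key, tr_mul, tr_mul, dT_mul, dT_mul, ← key, ← key]
    group
  have : IsMonHom f := InfConjFam.isMonHom_of_mul f hmul
  obtain ⟨U, hvU, φ, hφ⟩ := BorLoc613.exists_near f v
  have hacts : ∀ (X : Over S) (x : X ⟶ V), Set.range x.left ⊆ (U : Set V.left) → ActsBy D (x ≫ n) φ := by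
    intro X x hx Y y t
    let T : Over V.left := Over.mk (y ≫ x).left
    let e : Y ⟶ (Over.map V.hom).obj T := Over.homMk (𝟙 _) (by
      change 𝟙 _ ≫ (y ≫ x).left ≫ V.hom = Y.hom
      rw [Category.id_comp]
      exact Over.w (y ≫ x))
    let q : T ⟶ Red.DS V.left D.M := dsEquiv T D.M (dsChar t : Multiplicative D.M →* Γ(Y.left, ⊤))
    have h1 : e ≫ tr V.hom q = t := by
      unfold tr
      rw [dsEquiv_naturality, dsChar_dsEquiv]
      refine Eq.trans ?_ (dsEquiv_dsChar t)
      congr 1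
    have h2 : e ≫ str V T = y ≫ x := by
      apply Over.OverMorphism.ext
      exact Category.id_comp _
    have hT : Set.range T.hom ⊆ (U : Set V.left) := by
      rintro _ ⟨z, rfl⟩
      exact hx ⟨y.left z, by
        change x.left (y.left z) = (y ≫ x).left z
        rw [Over.comp_left, Scheme.Hom.comp_apply]⟩
    have h3 := congrArg (e ≫ ·) (key q)
    simp only [MonObj.comp_mul, GrpObj.comp_inv, comp_dT] at h3
    rw [hφ T q hT, tr_DSmap, ← Category.assoc, h2, h1, ← Category.assoc, h1] at h3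
    rw [← Category.assoc]
    exact h3
  let V' : Over S := Over.mk (U.ι ≫ V.hom)
  let x : V' ⟶ V := Over.homMk U.ι
  have hx : Set.range x.left ⊆ (U : Set V.left) := by
    rintro _ ⟨z, rfl⟩
    exact z.2
  obtain ⟨w, hw, hwφ⟩ := exists_weyl D (V := V') ⟨⟨v, hvU⟩⟩ (x ≫ n) φ (hacts V' x hx)
  refine ⟨U, hvU, w, hw, ?_⟩
  have e1 : w.weightMap.toAddMonoidHom = φ := AddMonoidHom.ext hwφ
  rw [e1]
  exact hacts

end Groth.Agent.RedSub.H647.WeylLoc
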